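import Cfsg.Agent.Lib.S3358.Defs
import Cfsg.Agent.H2.UniqueOrderP

set_option autoImplicit false

/-! # S3358, piece U1: under `PU`, every `p`-subgroup is cyclic or generalized quaternion -/

namespace Cfsg.Agent.S3358L

universe u

theorem U1_eq_zpowers {G : Type u} [Group G] [Finite G] (hU : PU G) (p : ℕ) (hp : p.Prime)
    (P : Subgroup G) (a : P) (ha : orderOf a = p) (hac : ∀ x : P, a * x = x * a)
    (H : Subgroup P) (hH : Nat.card H = p) : H = Subgroup.zpowers a := by
  have hle : H ≤ Subgroup.zpowers a := by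
    intro x hx
    have hox : orderOf x ∣ p := by
      have h1 : orderOf (⟨x, hx⟩ : H) ∣ Nat.card H := orderOf_dvd_natCard _
      rw [hH] at h1
      have h2 : orderOf (⟨x, hx⟩ : H) = orderOf x := by
        rw [← Subgroup.orderOf_coe]
      rwa [h2] at h1
    rcases (Nat.dvd_prime hp).mp hox with h1 | h1
    · rw [orderOf_eq_one_iff] at h1
      rw [h1]; exact Subgroup.one_mem _
    · have haG : orderOf (a : G) = p := by rw [Subgroup.orderOf_coe]; exact ha
      have hxG : orderOf (x : G) = p := by rw [Subgroup.orderOf_coe]; exact h1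
      have hcomm : (a : G) * (x : G) = (x : G) * (a : G) := by
        have := congrArg (Subtype.val) (hac x)
        simpa using this
      have hmem := hU p (a : G) (x : G) hp haG hxG hcomm
      rw [Subgroup.mem_zpowers_iff] at hmem ⊢
      obtain ⟨k, hk⟩ := hmem
      exact ⟨k, Subtype.ext (by simpa using hk)⟩
  apply Subgroup.eq_of_le_of_card_ge hle
  rw [Nat.card_zpowers, ha, hH]

theorem U1_pgroup {G : Type u} [Group G] [Finite G] (hU : PU G) (p : ℕ) [Fact p.Prime]
    (P : Subgroup G) (hP : IsPGroup p P) :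
    IsCyclic P ∨ (p = 2 ∧ ∃ n : ℕ, Nonempty (P ≃* QuaternionGroup (2 ^ n))) := by
  have hp : p.Prime := Fact.out
  by_cases htriv : Subsingleton P
  · left
    infer_instance
  · rw [not_subsingleton_iff_nontrivial] at htriv
    haveI := htriv
    haveI hZn : Nontrivial (Subgroup.center P) := hP.center_nontrivial
    have hZ : IsPGroup p (Subgroup.center P) := hP.to_subgroup _
    obtain ⟨n, hn0, hn⟩ := hZ.nontrivial_iff_card.mp hZn
    have hdvd : p ∣ Nat.card (Subgroup.center P) := by
      rw [hn]; exact dvd_pow_self p (by omega)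
    obtain ⟨z, hz⟩ := exists_prime_orderOf_dvd_card' p hdvd
    have hza : orderOf (z : P) = p := by rw [Subgroup.orderOf_coe]; exact hz
    have hzc : ∀ x : P, (z : P) * x = x * (z : P) := by
      intro x
      exact (Subgroup.mem_center_iff.mp z.2 x).symm
    apply Cfsg.Agent.H2.UOP.main p hP
    intro H K hH hK
    rw [U1_eq_zpowers hU p hp P (z : P) hza hzc H hH, U1_eq_zpowers hU p hp P (z : P) hza hzc K hK]

end Cfsg.Agent.S3358L
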