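import Mathlib
import Cfsg.Agent.Lib.S4292.Defs

set_option autoImplicit false

namespace Cfsg.Agent.S3358L

universe u

/-- commuting elements of the same prime order generate the same subgroup (no `C_p × C_p`) -/
def PU (G : Type u) [Group G] : Prop :=
  ∀ (p : ℕ) (a b : G), p.Prime → orderOf a = p → orderOf b = p → a * b = b * a →
    b ∈ Subgroup.zpowers a

/-- an element of prime order normalizing a subgroup of prime order centralizes it
(subgroups of order `pq` are cyclic) -/
def PB (G : Type u) [Group G] : Prop :=
  ∀ (p q : ℕ) (a b : G), p.Prime → q.Prime → orderOf a = p → orderOf b = q →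
    a * b * a⁻¹ ∈ Subgroup.zpowers b → a * b = b * a

/-- the relators of the metacyclic presentation in the statement -/
def rels (n m r : ℕ) : Set (FreeGroup (Fin 2)) :=
  {FreeGroup.of (0 : Fin 2) ^ n, FreeGroup.of (1 : Fin 2) ^ m,
    (FreeGroup.of (0 : Fin 2))⁻¹ * FreeGroup.of 1 * FreeGroup.of 0 * (FreeGroup.of (1 : Fin 2) ^ r)⁻¹}

end Cfsg.Agent.S3358L
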