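import Mathlib
import Cfsg.Agent.Lib.S3358.Defs

set_option autoImplicit false

namespace Cfsg.Agent.S3358L

open QuaternionGroup
open scoped Pointwise

/-- a "face": `{p, q, p * q}` -/
def QXc1_face (p q : QuaternionGroup 2) : Finset (QuaternionGroup 2) := {p, q, p * q}

/-- a "diagonal": a face together with the opposite face -/
def QXc1_diag (p q : QuaternionGroup 2) : Finset (Finset (QuaternionGroup 2)) :=
  {QXc1_face p q, QXc1_face q⁻¹ p⁻¹}

theorem QXc1_smul_face (ψ : MulAut (QuaternionGroup 2)) (p q : QuaternionGroup 2) :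
    ψ • QXc1_face p q = QXc1_face (ψ p) (ψ q) := by
  unfold QXc1_face
  rw [Finset.smul_finset_insert, Finset.smul_finset_insert, Finset.smul_finset_singleton]
  simp only [MulAut.smul_def, map_mul]

theorem QXc1_smul_diag (ψ : MulAut (QuaternionGroup 2)) (p q : QuaternionGroup 2) :
    ψ • QXc1_diag p q = QXc1_diag (ψ p) (ψ q) := by
  unfold QXc1_diag
  rw [Finset.smul_finset_insert, Finset.smul_finset_singleton, QXc1_smul_face, QXc1_smul_face,
    map_inv, map_inv]

/-- the finite set of the four diagonals -/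
def QXc1_Dfin : Finset (Finset (Finset (QuaternionGroup 2))) :=
  (Finset.univ.filter (fun pq : QuaternionGroup 2 × QuaternionGroup 2 =>
    pq.1 * pq.2 ≠ pq.2 * pq.1)).image (fun pq => QXc1_diag pq.1 pq.2)

theorem QXc1_card_Dfin : QXc1_Dfin.card = 4 := by decide

theorem QXc1_rigid : ∀ p q : QuaternionGroup 2,
    QXc1_diag p q = QXc1_diag (a 1) (xa 0) → QXc1_diag p⁻¹ q = QXc1_diag (a 1)⁻¹ (xa 0) →
    QXc1_diag p q⁻¹ = QXc1_diag (a 1) (xa 0)⁻¹ →
    QXc1_diag p⁻¹ q⁻¹ = QXc1_diag (a 1)⁻¹ (xa 0)⁻¹ → p = a 1 ∧ q = xa 0 := by decide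


/-- the invariant set of the four diagonals, as a sub-action -/
def QXc1_D : SubMulAction (MulAut (QuaternionGroup 2)) (Finset (Finset (QuaternionGroup 2))) where
  carrier := {d | ∃ p q : QuaternionGroup 2, p * q ≠ q * p ∧ d = QXc1_diag p q}
  smul_mem' := by
    rintro ψ d ⟨p, q, hpq, rfl⟩
    refine ⟨ψ p, ψ q, ?_, QXc1_smul_diag ψ p q⟩
    intro h
    apply hpq
    apply ψ.injective
    rw [map_mul, map_mul]
    exact h

theorem QXc1_mem_D (d : Finset (Finset (QuaternionGroup 2))) :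
    d ∈ QXc1_D ↔ ∃ p q : QuaternionGroup 2, p * q ≠ q * p ∧ d = QXc1_diag p q := Iff.rfl

theorem QXc1_card_D : Nat.card QXc1_D = 4 := by
  have hiff : ∀ d : Finset (Finset (QuaternionGroup 2)), d ∈ QXc1_D ↔ d ∈ QXc1_Dfin := by
    intro d
    rw [QXc1_mem_D]
    unfold QXc1_Dfin
    rw [Finset.mem_image]
    constructor
    · rintro ⟨p, q, hpq, rfl⟩
      exact ⟨(p, q), by simpa using hpq, rfl⟩
    · rintro ⟨⟨p, q⟩, hpq, rfl⟩
      exact ⟨p, q, by simpa using hpq, rfl⟩
  rw [Nat.card_congr (Equiv.subtypeEquivRight hiff), Nat.card_eq_fintype_card, Fintype.card_coe]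
  exact QXc1_card_Dfin

theorem QXc1_faithful (ψ : MulAut (QuaternionGroup 2)) (h : ∀ d : QXc1_D, ψ • d = d) : ψ = 1 := by
  have key : ∀ p q : QuaternionGroup 2, p * q ≠ q * p →
      QXc1_diag (ψ p) (ψ q) = QXc1_diag p q := by
    intro p q hpq
    have h1 := h ⟨QXc1_diag p q, p, q, hpq, rfl⟩
    have h2 := congrArg Subtype.val h1
    rw [SubMulAction.val_smul] at h2
    rw [← QXc1_smul_diag]
    exact h2
  have h1 := key (a 1) (xa 0) (by decide)
  have h2 := key (a 1)⁻¹ (xa 0) (by decide)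
  have h3 := key (a 1) (xa 0)⁻¹ (by decide)
  have h4 := key (a 1)⁻¹ (xa 0)⁻¹ (by decide)
  rw [map_inv] at h2 h3 h4
  rw [map_inv] at h4
  obtain ⟨hi, hj⟩ := QXc1_rigid (ψ (a 1)) (ψ (xa 0)) h1 h2 h3 h4
  have hA : ∀ z : ZMod (2 * 2), ψ (a z) = a z := by
    intro z
    have hz : (a z : QuaternionGroup 2) = a 1 ^ z.val := by
      rw [a_one_pow, ZMod.natCast_zmod_val]
    rw [hz, map_pow, hi]
  ext x
  rcases x with z | z
  · rw [hA, MulAut.one_apply]
  · have hz : (xa z : QuaternionGroup 2) = xa 0 * a z := by rw [xa_mul_a, zero_add]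
    rw [hz, map_mul, hj, hA, MulAut.one_apply]

/-- `Aut(Q₈)` embeds in `S₄` (it acts faithfully on the four diagonals) -/
theorem QXc1_exists_embedding :
    ∃ Φ : MulAut (QuaternionGroup 2) →* Equiv.Perm (Fin 4), Function.Injective Φ := by
  have e : QXc1_D ≃ Fin 4 := Finite.equivFinOfCardEq QXc1_card_D
  refine ⟨(e.permCongrHom : _ →* _).comp
    (MulAction.toPermHom (MulAut (QuaternionGroup 2)) QXc1_D), ?_⟩
  intro ψ₁ ψ₂ h
  have h' : MulAction.toPermHom (MulAut (QuaternionGroup 2)) QXc1_D ψ₁ =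
      MulAction.toPermHom (MulAut (QuaternionGroup 2)) QXc1_D ψ₂ := e.permCongrHom.injective h
  have h1 : ψ₁⁻¹ * ψ₂ = 1 := by
    apply QXc1_faithful
    intro d
    rw [mul_smul]
    have h2 : ψ₁ • d = ψ₂ • d := congrArg (fun σ => σ d) h'
    rw [← h2, inv_smul_smul]
  exact inv_mul_eq_one.1 h1

end Cfsg.Agent.S3358L
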