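import Mathlib
import Cfsg.Agent.Lib.S3358.Defs

set_option autoImplicit false
set_option linter.style.haveILetI false

namespace Cfsg.Agent.S3358L

universe u

open QuaternionGroup

/-- an element of a finite group whose order divides a power of two and an odd number is trivial -/
theorem QXa_eq_one_of_odd {M : Type*} [Group M] (x : M) (b j : ℕ) (hb : x ^ (2 ^ b) = 1)
    (hj : x ^ j = 1) (hodd : Odd j) : x = 1 := by
  have h1 : orderOf x ∣ 2 ^ b := orderOf_dvd_of_pow_eq_one hb
  have h2 : orderOf x ∣ j := orderOf_dvd_of_pow_eq_one hj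
  have hcop : Nat.Coprime (2 ^ b) j := by
    apply Nat.Coprime.pow_left
    rw [Nat.coprime_two_left]
    exact hodd
  have : orderOf x = 1 := Nat.eq_one_of_dvd_coprimes hcop h1 h2
  exact orderOf_eq_one_iff.1 this

/-- an automorphism of odd order of a generalized quaternion group of order `≥ 16` is trivial -/
theorem QXa_quaternion_aut {k : ℕ} (hk : 2 ≤ k) (ψ : MulAut (QuaternionGroup (2 ^ k))) (j : ℕ)
    (hodd : Odd j) (hj : ψ ^ j = 1) : ψ = 1 := by
  have hn4 : 4 ≤ 2 ^ k := by
    calc 4 = 2 ^ 2 := by norm_num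
      _ ≤ 2 ^ k := Nat.pow_le_pow_right (by norm_num) hk
  haveI : NeZero (2 ^ k) := ⟨by positivity⟩
  haveI : NeZero (2 * 2 ^ k) := ⟨by positivity⟩
  -- Step 1
  obtain ⟨i, hi⟩ : ∃ i, ψ (a 1) = a i := by
    rcases h : ψ (a 1) with i | i
    · exact ⟨i, rfl⟩
    · exfalso
      have h1 : orderOf (ψ (a 1)) = orderOf (a 1 : QuaternionGroup (2 ^ k)) :=
        MulEquiv.orderOf_eq ψ _
      rw [h, orderOf_xa, orderOf_a_one] at h1
      omega
  -- Step 2
  have hnat : ∀ m : ℕ, ψ (a (m : ZMod (2 * 2 ^ k))) = a (i * (m : ZMod (2 * 2 ^ k))) := by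
    intro m
    induction m with
    | zero =>
      simp only [Nat.cast_zero, mul_zero]
      rw [a_zero, map_one]
    | succ m ih =>
      have : (a ((m + 1 : ℕ) : ZMod (2 * 2 ^ k)) : QuaternionGroup (2 ^ k)) = a m * a 1 := by
        rw [a_mul_a]; push_cast; rfl
      rw [this, map_mul, ih, hi, a_mul_a]
      push_cast
      ring_nf
  have hA : ∀ z : ZMod (2 * 2 ^ k), ψ (a z) = a (i * z) := by
    intro z
    have := hnat z.val
    rwa [ZMod.natCast_zmod_val] at this
  -- Step 3
  have hApow : ∀ t : ℕ, ∀ z : ZMod (2 * 2 ^ k), (ψ ^ t) (a z) = a (i ^ t * z) := by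
    intro t
    induction t with
    | zero => intro z; simp
    | succ t ih =>
      intro z
      rw [pow_succ, MulAut.mul_apply, hA, ih]
      congr 1
      ring
  have hij : i ^ j = 1 := by
    have := hApow j 1
    rw [hj, MulAut.one_apply, mul_one] at this
    exact (QuaternionGroup.a.inj this).symm
  -- Step 4
  have hi1 : i = 1 := by
    have hj0 : j ≠ 0 := by
      rintro rfl
      simp at hodd
    have hu : IsUnit i := IsUnit.of_pow_eq_one hij hj0
    obtain ⟨u, rfl⟩ := hu
    have huj : u ^ j = 1 := by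
      apply Units.ext
      rw [Units.val_pow_eq_pow_val, hij, Units.val_one]
    have hcard : Fintype.card (ZMod (2 * 2 ^ k))ˣ = 2 ^ k := by
      rw [ZMod.card_units_eq_totient, show 2 * 2 ^ k = 2 ^ (k + 1) by ring,
        Nat.totient_prime_pow_succ Nat.prime_two]
      norm_num
    have hu2 : u ^ (2 ^ k) = 1 := by
      have h := pow_card_eq_one (x := u)
      rwa [hcard] at h
    have := QXa_eq_one_of_odd u k j hu2 huj hodd
    rw [this, Units.val_one]
  subst hi1
  -- Step 5
  obtain ⟨c, hc⟩ : ∃ c, ψ (xa 0) = xa c := by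
    rcases h : ψ (xa 0) with c | c
    · exfalso
      have h1 : ψ (a c) = a c := by rw [hA, one_mul]
      have h2 : ψ (xa 0) = ψ (a c) := by rw [h, h1]
      have h3 := ψ.injective h2
      cases h3
    · exact ⟨c, rfl⟩
  -- Step 6
  have hX : ∀ z : ZMod (2 * 2 ^ k), ψ (xa z) = xa (c + z) := by
    intro z
    have : (xa z : QuaternionGroup (2 ^ k)) = xa 0 * a z := by rw [xa_mul_a, zero_add]
    rw [this, map_mul, hc, hA, one_mul, xa_mul_a]
  -- Step 7
  have hXpow : ∀ t : ℕ, ∀ z : ZMod (2 * 2 ^ k),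
      (ψ ^ t) (xa z) = xa ((t : ZMod (2 * 2 ^ k)) * c + z) := by
    intro t
    induction t with
    | zero => intro z; simp
    | succ t ih =>
      intro z
      rw [pow_succ, MulAut.mul_apply, hX, ih]
      congr 1
      push_cast
      ring
  have hc0 : c = 0 := by
    have h1 := hXpow j 0
    rw [hj, MulAut.one_apply, add_zero] at h1
    have h2 : (j : ZMod (2 * 2 ^ k)) * c = 0 := (QuaternionGroup.xa.inj h1).symm
    have hcop : Nat.Coprime j (2 * 2 ^ k) := by
      rw [show 2 * 2 ^ k = 2 ^ (k + 1) by ring]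
      apply Nat.Coprime.pow_right
      rw [Nat.coprime_two_right]
      exact hodd
    have hunit : IsUnit (j : ZMod (2 * 2 ^ k)) := (ZMod.isUnit_iff_coprime j _).2 hcop
    exact (hunit.mul_right_eq_zero).1 h2
  subst hc0
  -- Step 8
  ext x
  rcases x with z | z
  · rw [hA, one_mul, MulAut.one_apply]
  · rw [hX, zero_add, MulAut.one_apply]

/-- QXa: odd-order elements centralize a normal cyclic / large generalized quaternion 2-subgroup -/
theorem QXa_centralizes {X : Type u} [Group X] [Finite X] (T : Subgroup X) [T.Normal]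
    (hT : IsCyclic T ∨ ∃ k : ℕ, 2 ≤ k ∧ Nonempty (T ≃* QuaternionGroup (2 ^ k)))
    (hT2 : IsPGroup 2 T) (g : X) (hg : Odd (orderOf g)) : ∀ t ∈ T, g * t = t * g := by
  have hpow : (MulAut.conjNormal g : MulAut T) ^ orderOf g = 1 := by
    rw [← map_pow, pow_orderOf_eq_one, map_one]
  have key : (MulAut.conjNormal g : MulAut T) = 1 := by
    rcases hT with hcyc | ⟨k, hk, ⟨e⟩⟩
    · obtain ⟨b, hb⟩ := (IsPGroup.iff_card (p := 2) (G := T)).1 hT2
      have hcard : Nat.card (MulAut T) = Nat.totient (2 ^ b) := by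
        rw [IsCyclic.card_mulAut, hb]
      have hdvd : Nat.card (MulAut T) ∣ 2 ^ b := by
        rw [hcard]
        rcases b with _ | b
        · simp
        · rw [Nat.totient_prime_pow_succ Nat.prime_two]
          exact ⟨2, by ring⟩
      have h2b : (MulAut.conjNormal g : MulAut T) ^ (2 ^ b) = 1 := by
        obtain ⟨c, hc⟩ := hdvd
        rw [hc, pow_mul]
        haveI : Finite (MulAut T) := Nat.finite_of_card_ne_zero (by
          rw [hcard]; exact (Nat.totient_pos.2 (by positivity)).ne')
        rw [pow_card_eq_one', one_pow]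
      exact QXa_eq_one_of_odd _ b _ h2b hpow hg
    · have h1 : (MulAut.congr e (MulAut.conjNormal g : MulAut T)) ^ orderOf g = 1 := by
        rw [← map_pow, hpow, map_one]
      have h2 := QXa_quaternion_aut hk _ _ hg h1
      have h3 : MulAut.congr e (MulAut.conjNormal g : MulAut T) = MulAut.congr e 1 := by
        rw [h2, map_one]
      exact (MulAut.congr e).injective h3
  intro t ht
  have h1 := MulAut.conjNormal_apply (H := T) g ⟨t, ht⟩
  rw [key, MulAut.one_apply] at h1
  have h2 : t = g * t * g⁻¹ := h1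
  calc g * t = g * t * g⁻¹ * g := by group
    _ = t * g := by rw [← h2]

end Cfsg.Agent.S3358L
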