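import Mathlib
import Cfsg.Agent.Lib.S3358.Defs
import Cfsg.Agent.Lib.S3358.U1

set_option autoImplicit false

namespace Cfsg.Agent.S3358L

universe u

/-- the sign-like homomorphism of a (generalized) quaternion group: `a i ↦ 1`, `xa i ↦ (0 1)` -/
def QXb_s (N : ℕ) : QuaternionGroup N →* Equiv.Perm (Fin 4) where
  toFun := fun q => match q with
    | .a _ => 1
    | .xa _ => Equiv.swap 0 1
  map_one' := rfl
  map_mul' := by
    rintro (i | i) (j | j)
    · show (match (QuaternionGroup.a i * QuaternionGroup.a j : QuaternionGroup N) with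
        | .a _ => (1 : Equiv.Perm (Fin 4)) | .xa _ => Equiv.swap 0 1) = 1 * 1
      rw [QuaternionGroup.a_mul_a, one_mul]
    · show (match (QuaternionGroup.a i * QuaternionGroup.xa j : QuaternionGroup N) with
        | .a _ => (1 : Equiv.Perm (Fin 4)) | .xa _ => Equiv.swap 0 1) = 1 * Equiv.swap 0 1
      rw [QuaternionGroup.a_mul_xa, one_mul]
    · show (match (QuaternionGroup.xa i * QuaternionGroup.a j : QuaternionGroup N) with
        | .a _ => (1 : Equiv.Perm (Fin 4)) | .xa _ => Equiv.swap 0 1) = Equiv.swap 0 1 * 1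
      rw [QuaternionGroup.xa_mul_a, mul_one]
    · show (match (QuaternionGroup.xa i * QuaternionGroup.xa j : QuaternionGroup N) with
        | .a _ => (1 : Equiv.Perm (Fin 4)) | .xa _ => Equiv.swap 0 1) =
          Equiv.swap 0 1 * Equiv.swap 0 1
      rw [QuaternionGroup.xa_mul_xa, Equiv.swap_mul_self]

theorem QXb_s_a (N : ℕ) (i : ZMod (2 * N)) : QXb_s N (QuaternionGroup.a i) = 1 := rfl

theorem QXb_s_xa (N : ℕ) (i : ZMod (2 * N)) : QXb_s N (QuaternionGroup.xa i) = Equiv.swap 0 1 := rfl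

theorem QXb_mem_ker (N : ℕ) [NeZero N] (q : QuaternionGroup N) (hq : QXb_s N q = 1) :
    q ∈ Subgroup.zpowers (QuaternionGroup.a 1 : QuaternionGroup N) := by
  rcases q with i | i
  · rw [Subgroup.mem_zpowers_iff]
    refine ⟨(i.val : ℤ), ?_⟩
    rw [zpow_natCast, QuaternionGroup.a_one_pow, ZMod.natCast_zmod_val]
  · exfalso
    rw [QXb_s_xa] at hq
    have := congrArg (fun σ : Equiv.Perm (Fin 4) => σ 0) hq
    simp at this

/-- the 2-group case, from the conclusion of `U1_pgroup` for `⊤` -/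
theorem QXb_aux {X : Type u} [Group X] [Finite X] (hX : IsPGroup 2 X)
    (h : IsCyclic (⊤ : Subgroup X) ∨
      ∃ n : ℕ, Nonempty ((⊤ : Subgroup X) ≃* QuaternionGroup (2 ^ n))) :
    ∃ (X₀ : Subgroup X) (f : X →* Equiv.Perm (Fin 4)), f.ker = X₀ ∧ IsCyclic X₀ ∧ IsPGroup 2 X₀ := by
  rcases h with hc | ⟨n, ⟨e⟩⟩
  · exact ⟨⊤, 1, MonoidHom.ker_one, hc, hX.to_subgroup ⊤⟩
  · have : NeZero (2 ^ n) := ⟨pow_ne_zero n two_ne_zero⟩
    let e' : X ≃* QuaternionGroup (2 ^ n) := (Subgroup.topEquiv (G := X)).symm.trans e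
    let f : X →* Equiv.Perm (Fin 4) := (QXb_s (2 ^ n)).comp e'.toMonoidHom
    refine ⟨f.ker, f, rfl, ?_, hX.to_subgroup _⟩
    have hle : f.ker ≤ Subgroup.zpowers (e'.symm (QuaternionGroup.a 1)) := by
      intro x hx
      have h1 : QXb_s (2 ^ n) (e' x) = 1 := hx
      have h2 := QXb_mem_ker (2 ^ n) (e' x) h1
      rw [Subgroup.mem_zpowers_iff] at h2 ⊢
      obtain ⟨k, hk⟩ := h2
      refine ⟨k, ?_⟩
      rw [← map_zpow, hk, MulEquiv.symm_apply_apply]
    exact Subgroup.isCyclic_of_le hle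

/-- QXb: the 2-group case -/
theorem QXb_two_group {X : Type u} [Group X] [Finite X] (hX : IsPGroup 2 X) (hU : PU X) :
    ∃ (X₀ : Subgroup X) (f : X →* Equiv.Perm (Fin 4)), f.ker = X₀ ∧ IsCyclic X₀ ∧ IsPGroup 2 X₀ := by
  have : Fact (Nat.Prime 2) := ⟨Nat.prime_two⟩
  apply QXb_aux hX
  rcases U1_pgroup hU 2 (⊤ : Subgroup X) (hX.to_subgroup ⊤) with h | ⟨_, h⟩
  · exact Or.inl h
  · exact Or.inr h

end Cfsg.Agent.S3358L
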