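import Mathlib
import Cfsg.Agent.Lib.S3358.Defs

set_option autoImplicit false

namespace Cfsg.Agent.S3358L

open QuaternionGroup

universe u

/-- the quaternion group of order 8 -/
abbrev QXc_Q := QuaternionGroup 2

/-- is `q` one of `x`, `y`, `x * y`? -/
def QXc_mem (q x y : QXc_Q) : Bool := decide (x = q ∨ y = q ∨ x * y = q)

/-- the "cube diagonal" of the vertex `{x, y, x * y}` determined by a non-commuting pair -/
def QXc_kap (x y : QXc_Q) : Fin 4 :=
  (if QXc_mem (a 1) x y = QXc_mem (a 1 * xa 0) x y then 0 else 2) +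
  (if QXc_mem (xa 0) x y = QXc_mem (a 1 * xa 0) x y then 0 else 1)

set_option maxRecDepth 100000 in
theorem QXc_kap_inv : ∀ u v : QXc_Q, u * v ≠ v * u →
    QXc_kap v (u * v) = QXc_kap u v ∧ QXc_kap (u * v) u = QXc_kap u v ∧
    QXc_kap v⁻¹ u⁻¹ = QXc_kap u v ∧ QXc_kap u⁻¹ (u * v)⁻¹ = QXc_kap u v ∧
    QXc_kap (u * v)⁻¹ v⁻¹ = QXc_kap u v := by decide

set_option maxRecDepth 100000 in
theorem QXc_faith : ∀ x y : QXc_Q, x * y ≠ y * x → QXc_kap x y = 0 → QXc_kap x⁻¹ y = 1 →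
    QXc_kap x y⁻¹ = 2 → QXc_kap x⁻¹ y⁻¹ = 3 → x = a 1 ∧ y = xa 0 := by decide

set_option maxRecDepth 100000 in
set_option synthInstance.maxSize 4000 in
set_option synthInstance.maxHeartbeats 0 in
set_option maxHeartbeats 0 in
theorem QXc_fib : ∀ x y x' y' : QXc_Q, x * y ≠ y * x → x' * y' ≠ y' * x' →
    QXc_kap x y = QXc_kap x' y' →
    (x' = x ∧ y' = y) ∨ (x' = y ∧ y' = x * y) ∨ (x' = x * y ∧ y' = x) ∨
    (x' = y⁻¹ ∧ y' = x⁻¹) ∨ (x' = x⁻¹ ∧ y' = (x * y)⁻¹) ∨ (x' = (x * y)⁻¹ ∧ y' = y⁻¹) := by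
  decide

set_option maxRecDepth 100000 in
theorem QXc_center : ∀ q : QXc_Q, (∀ h : QXc_Q, q * h = h * q) → q = 1 ∨ q = a 2 := by decide

set_option maxRecDepth 100000 in
theorem QXc_gen : ∀ x : QXc_Q, ∃ e : Fin 4, ∃ f : Fin 2,
    x = (a 1 : QXc_Q) ^ (e : ℕ) * (xa 0 : QXc_Q) ^ (f : ℕ) := by decide

/-- representatives of the four diagonals -/
def QXc_rx (n : Fin 4) : QXc_Q := if n = 0 ∨ n = 2 then a 1 else (a 1)⁻¹
/-- representatives of the four diagonals -/
def QXc_ry (n : Fin 4) : QXc_Q := if n = 0 ∨ n = 1 then xa 0 else (xa 0)⁻¹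

set_option maxRecDepth 100000 in
theorem QXc_rep_nc : ∀ n : Fin 4, QXc_rx n * QXc_ry n ≠ QXc_ry n * QXc_rx n := by decide

set_option maxRecDepth 100000 in
theorem QXc_rep_kap : ∀ n : Fin 4, QXc_kap (QXc_rx n) (QXc_ry n) = n := by decide

set_option maxRecDepth 100000 in
theorem QXc_r_vals : QXc_rx 0 = a 1 ∧ QXc_ry 0 = xa 0 ∧ QXc_rx 1 = (a 1)⁻¹ ∧ QXc_ry 1 = xa 0 ∧
    QXc_rx 2 = a 1 ∧ QXc_ry 2 = (xa 0)⁻¹ ∧ QXc_rx 3 = (a 1)⁻¹ ∧ QXc_ry 3 = (xa 0)⁻¹ := by
  decide

theorem QXc_kap_aut (σ : MulAut QXc_Q) (x y x' y' : QXc_Q) (h : x * y ≠ y * x)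
    (h' : x' * y' ≠ y' * x') (hk : QXc_kap x y = QXc_kap x' y') :
    QXc_kap (σ x) (σ y) = QXc_kap (σ x') (σ y') := by
  have hσ : σ x * σ y ≠ σ y * σ x := by
    intro hh
    apply h
    apply σ.injective
    rw [map_mul, map_mul, hh]
  obtain ⟨h1, h2, h3, h4, h5⟩ := QXc_kap_inv (σ x) (σ y) hσ
  rcases QXc_fib x y x' y' h h' hk with ⟨rfl, rfl⟩ | ⟨rfl, rfl⟩ | ⟨rfl, rfl⟩ | ⟨rfl, rfl⟩ |
    ⟨rfl, rfl⟩ | ⟨rfl, rfl⟩
  · rfl
  · rw [map_mul]; exact h1.symm
  · rw [map_mul]; exact h2.symm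
  · rw [map_inv, map_inv]; exact h3.symm
  · rw [map_inv, map_inv, map_mul]; exact h4.symm
  · rw [map_inv, map_inv, map_mul]; exact h5.symm

/-- the action of an automorphism on the four diagonals -/
def QXc_pi (σ : MulAut QXc_Q) (n : Fin 4) : Fin 4 := QXc_kap (σ (QXc_rx n)) (σ (QXc_ry n))

theorem QXc_pi_one (n : Fin 4) : QXc_pi 1 n = n := by
  unfold QXc_pi
  rw [MulAut.one_apply, MulAut.one_apply]
  exact QXc_rep_kap n

theorem QXc_pi_mul (σ τ : MulAut QXc_Q) (n : Fin 4) :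
    QXc_pi (σ * τ) n = QXc_pi σ (QXc_pi τ n) := by
  unfold QXc_pi
  rw [MulAut.mul_apply, MulAut.mul_apply]
  apply QXc_kap_aut σ
  · intro hh
    apply QXc_rep_nc n
    apply τ.injective
    rw [map_mul, map_mul, hh]
  · exact QXc_rep_nc _
  · rw [QXc_rep_kap]

/-- `Aut(Q₈)` acts on the four diagonals -/
def QXc_iota : MulAut QXc_Q →* Equiv.Perm (Fin 4) where
  toFun σ :=
    { toFun := QXc_pi σ
      invFun := QXc_pi σ⁻¹
      left_inv := fun n => by rw [← QXc_pi_mul, inv_mul_cancel, QXc_pi_one]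
      right_inv := fun n => by rw [← QXc_pi_mul, mul_inv_cancel, QXc_pi_one] }
  map_one' := by
    ext n
    simp [QXc_pi_one]
  map_mul' σ τ := by
    ext n
    simp [QXc_pi_mul]

theorem QXc_iota_apply (σ : MulAut QXc_Q) (n : Fin 4) : QXc_iota σ n = QXc_pi σ n := rfl

theorem QXc_iota_inj : Function.Injective QXc_iota := by
  rw [injective_iff_map_eq_one]
  intro σ hσ
  have h : ∀ n, QXc_pi σ n = n := fun n => by
    rw [← QXc_iota_apply, hσ]; rfl
  obtain ⟨v0, w0, v1, w1, v2, w2, v3, w3⟩ := QXc_r_vals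
  have h0 := h 0
  have h1 := h 1
  have h2 := h 2
  have h3 := h 3
  unfold QXc_pi at h0 h1 h2 h3
  rw [v0, w0] at h0
  rw [v1, w1, map_inv] at h1
  rw [v2, w2, map_inv] at h2
  rw [v3, w3, map_inv, map_inv] at h3
  have hnc : σ (a 1) * σ (xa 0) ≠ σ (xa 0) * σ (a 1) := by
    intro hh
    have := QXc_rep_nc 0
    rw [v0, w0] at this
    apply this
    apply σ.injective
    rw [map_mul, map_mul, hh]
  obtain ⟨ha, hb⟩ := QXc_faith _ _ hnc h0 h1 h2 h3
  ext x
  obtain ⟨e, f, rfl⟩ := QXc_gen x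
  rw [map_mul, map_pow, map_pow, ha, hb, MulAut.one_apply]

/-- QXc: the `Q₈` case -/
theorem QXc_q8 {X : Type u} [Group X] [Finite X] (T : Subgroup X) [T.Normal]
    (hT : Nonempty (T ≃* QuaternionGroup 2))
    (hmax : ∀ S : Subgroup X, S.Normal → IsPGroup 2 S → S ≤ T)
    (hC : Subgroup.centralizer (T : Set X) ≤ T) :
    ∃ (X₀ : Subgroup X) (f : X →* Equiv.Perm (Fin 4)), f.ker = X₀ ∧ IsCyclic X₀ ∧ IsPGroup 2 X₀ := by
  obtain ⟨e⟩ := hT
  let ψ : X →* MulAut T := MulAut.conjNormal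
  let f : X →* Equiv.Perm (Fin 4) := QXc_iota.comp ((MulAut.congr e).toMonoidHom.comp ψ)
  have hψ : ∀ g : X, ψ g = 1 ↔ g ∈ Subgroup.centralizer (T : Set X) := by
    intro g
    rw [Subgroup.mem_centralizer_iff]
    constructor
    · intro h2 t ht
      have h3 : ((ψ g ⟨t, ht⟩ : T) : X) = t := by rw [h2]; rfl
      rw [MulAut.conjNormal_apply] at h3
      have : g * t = t * g := by
        calc g * t = g * t * g⁻¹ * g := by group
          _ = t * g := by rw [h3]
      exact this.symm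
    · intro hg
      ext t
      rw [MulAut.conjNormal_apply, MulAut.one_apply]
      have := hg t t.2
      calc g * (t : X) * g⁻¹ = (t : X) * g * g⁻¹ := by rw [this]
        _ = t := by group
  have hker : f.ker = Subgroup.centralizer (T : Set X) := by
    ext g
    rw [MonoidHom.mem_ker, ← hψ]
    constructor
    · intro hg
      have h1 : (MulAut.congr e) (ψ g) = 1 := QXc_iota_inj (by rw [map_one]; exact hg)
      exact (MulAut.congr e).injective (by rw [h1, map_one])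
    · intro hg
      show QXc_iota ((MulAut.congr e) (ψ g)) = 1
      rw [hg, map_one, map_one]
  refine ⟨Subgroup.centralizer (T : Set X), f, hker, ?_⟩
  -- the centralizer has at most two elements
  set Z := Subgroup.centralizer (T : Set X) with hZ
  have hval : ∀ g : Z, e ⟨(g : X), hC g.2⟩ = 1 ∨ e ⟨(g : X), hC g.2⟩ = a 2 := by
    intro g
    apply QXc_center
    intro h
    obtain ⟨t, rfl⟩ := e.surjective h
    rw [← map_mul, ← map_mul]
    congr 1
    apply Subtype.ext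
    show (g : X) * (t : X) = (t : X) * (g : X)
    exact ((Subgroup.mem_centralizer_iff.mp g.2) t t.2).symm
  have hcard : Nat.card Z ≤ 2 := by
    have hinj : Function.Injective (fun g : Z => decide (e ⟨(g : X), hC g.2⟩ = 1)) := by
      intro g g' hgg
      have hgg' : (e ⟨(g : X), hC g.2⟩ = 1) ↔ (e ⟨(g' : X), hC g'.2⟩ = 1) := by
        simpa using hgg
      have : e ⟨(g : X), hC g.2⟩ = e ⟨(g' : X), hC g'.2⟩ := by
        rcases hval g with h1 | h1
        · rw [h1, hgg'.mp h1]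
        · rcases hval g' with h2 | h2
          · have := hgg'.mpr h2
            rw [this, h2]
          · rw [h1, h2]
      have h3 := e.injective this
      apply Subtype.ext
      exact congrArg (fun t : T => (t : X)) h3
    have := Nat.card_le_card_of_injective _ hinj
    simpa using this
  have hpos : 0 < Nat.card Z := Nat.card_pos
  have h12 : Nat.card Z = 1 ∨ Nat.card Z = 2 := by omega
  rcases h12 with h1 | h2
  · have : Subsingleton Z := (Nat.card_eq_one_iff_unique.mp h1).1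
    refine ⟨isCyclic_of_subsingleton, ?_⟩
    exact IsPGroup.of_card (n := 0) (by rw [h1]; rfl)
  · have : Fact (Nat.Prime 2) := ⟨Nat.prime_two⟩
    refine ⟨isCyclic_of_prime_card h2, ?_⟩
    exact IsPGroup.of_card (n := 1) (by rw [h2]; rfl)

end Cfsg.Agent.S3358L
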