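import Mathlib
import Cfsg.Prelude.Def_Solvable
import Cfsg.Agent.Lib.S3358.Defs
import Cfsg.Agent.Lib.S3358.U1
import Cfsg.Agent.Lib.S3358.QXa
import Cfsg.Agent.Lib.S3358.QXb
import Cfsg.Agent.Lib.S3358.QXc
import Cfsg.Agent.H1.Cores
import Cfsg.Agent.H2.QPrimeCoprime

set_option autoImplicit false

namespace Cfsg.Agent.S3358L

universe u

/-- a finite group without nontrivial elements of odd order is a 2-group -/
theorem QX_isPGroup_two_of_no_odd {X : Type u} [Group X] [Finite X]
    (h : ∀ g : X, Odd (orderOf g) → g = 1) : IsPGroup 2 X := by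
  intro g
  -- write orderOf g = 2^k * m with m odd
  obtain ⟨k, m, hm, hkm⟩ := Nat.exists_eq_two_pow_mul_odd (orderOf_pos g).ne'
  refine ⟨k, ?_⟩
  have hpos : 0 < 2 ^ k := by positivity
  have hord : orderOf (g ^ 2 ^ k) = m := by
    rw [orderOf_pow' g hpos.ne', hkm, Nat.gcd_eq_right (dvd_mul_right _ _),
      Nat.mul_div_cancel_left _ hpos]
  exact h _ (hord ▸ hm)

/-- QX -/
theorem QX_core_free {X : Type u} [Group X] [Finite X] (hs : Group.IsSolvable X) (hU : PU X)
    (hO : Cfsg.pPrimeCore 2 X = ⊥) :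
    ∃ (X₀ : Subgroup X) (f : X →* Equiv.Perm (Fin 4)), f.ker = X₀ ∧ IsCyclic X₀ ∧ IsPGroup 2 X₀ := by
  haveI : Fact (Nat.Prime 2) := ⟨Nat.prime_two⟩
  set T := Cfsg.pCore 2 X with hTdef
  haveI hTn : T.Normal := Cfsg.Agent.H1.pCore_normal 2
  have hT2 : IsPGroup 2 T := Cfsg.Agent.H1.pCore_isPGroup 2
  have hC : Subgroup.centralizer (T : Set X) ≤ T :=
    Cfsg.Agent.H2.QPrimeCoprime.centralizer_pCore_le_of_isSolvable 2 hs hO
  have hcase := U1_pgroup hU 2 T hT2
  -- the two-group alternative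
  have htwo : (IsCyclic T ∨ ∃ k : ℕ, 2 ≤ k ∧ Nonempty (T ≃* QuaternionGroup (2 ^ k))) →
      ∃ (X₀ : Subgroup X) (f : X →* Equiv.Perm (Fin 4)), f.ker = X₀ ∧ IsCyclic X₀ ∧ IsPGroup 2 X₀ := by
    intro hT
    have hX2 : IsPGroup 2 X := by
      apply QX_isPGroup_two_of_no_odd
      intro g hg
      have hcen : g ∈ Subgroup.centralizer (T : Set X) := by
        rw [Subgroup.mem_centralizer_iff]
        intro t ht
        exact (QXa_centralizes T hT hT2 g hg t ht).symm
      have hgT : g ∈ T := hC hcen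
      obtain ⟨j, hj⟩ := hT2 ⟨g, hgT⟩
      have hj' : g ^ 2 ^ j = 1 := by
        have := congrArg Subtype.val hj
        simpa using this
      have hdvd : orderOf g ∣ 2 ^ j := orderOf_dvd_of_pow_eq_one hj'
      have hodd1 : orderOf g = 1 := by
        have hcop : Nat.Coprime (orderOf g) (2 ^ j) :=
          Nat.Coprime.pow_right j (Nat.Coprime.symm (Nat.coprime_two_left.mpr hg))
        exact Nat.Coprime.eq_one_of_dvd hcop hdvd
      exact orderOf_eq_one_iff.mp hodd1
    exact QXb_two_group hX2 hU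
  rcases hcase with hcyc | ⟨-, n, ⟨e⟩⟩
  · exact htwo (Or.inl hcyc)
  · rcases Nat.lt_or_ge n 1 with hn0 | hn1
    · -- n = 0: T ≅ QuaternionGroup 1 is cyclic
      have hn : n = 0 := by omega
      subst hn
      have hcyc1 : IsCyclic (QuaternionGroup (2 ^ 0)) := by
        rw [pow_zero]; exact QuaternionGroup.quaternionGroup_one_isCyclic
      have : IsCyclic T := isCyclic_of_surjective e.symm.toMonoidHom e.symm.surjective
      exact htwo (Or.inl this)
    · rcases Nat.lt_or_ge n 2 with hn2 | hn2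
      · have hn : n = 1 := by omega
        subst hn
        rw [pow_one] at e
        refine QXc_q8 T ⟨e⟩ ?_ hC
        intro S hSn hS2
        exact Cfsg.Agent.H1.le_pCore hSn hS2
      · exact htwo (Or.inr ⟨n, hn2, ⟨e⟩⟩)

end Cfsg.Agent.S3358L
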