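import Cfsg.Agent.Lib.S3358.U1

set_option autoImplicit false

/-! # S3358, piece U2: `PU` passes to the quotient by a normal subgroup of odd order -/

namespace Cfsg.Agent.S3358L

universe u

/-- in a cyclic group, two elements of the same prime order generate the same subgroup -/
theorem U2_cyc {H : Type u} [Group H] [Finite H] (p : ℕ) (hp : p.Prime) (c x y : H)
    (hx : x ∈ Subgroup.zpowers c) (hy : y ∈ Subgroup.zpowers c)
    (hox : orderOf x = p) (hoy : orderOf y = p) : y ∈ Subgroup.zpowers x := by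
  have hpn : p ∣ orderOf c := by
    rw [← hox]
    exact orderOf_dvd_of_mem_zpowers hx
  obtain ⟨m, hm⟩ := hpn
  have hm0 : m ≠ 0 := by
    rintro rfl
    have := orderOf_pos c
    omega
  have key : ∀ z ∈ Subgroup.zpowers c, z ^ p = 1 → z ∈ Subgroup.zpowers (c ^ m) := by
    intro z hz hzp
    obtain ⟨i, rfl⟩ := Subgroup.mem_zpowers_iff.mp hz
    rw [← zpow_natCast, ← zpow_mul] at hzp
    have hd : (orderOf c : ℤ) ∣ i * p := orderOf_dvd_iff_zpow_eq_one.mpr hzp
    rw [hm] at hd
    push_cast at hd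
    have hd2 : (m : ℤ) ∣ i := by
      have hp0 : (p : ℤ) ≠ 0 := by exact_mod_cast hp.ne_zero
      rw [mul_comm i] at hd
      exact (mul_dvd_mul_iff_left hp0).mp hd
    obtain ⟨t, rfl⟩ := hd2
    rw [Subgroup.mem_zpowers_iff]
    exact ⟨t, by rw [← zpow_natCast, ← zpow_mul]⟩
  have hcm : orderOf (c ^ m) = p := by
    rw [orderOf_pow_of_dvd hm0 ⟨p, by rw [hm, mul_comm]⟩, hm]
    exact Nat.mul_div_cancel _ (Nat.pos_of_ne_zero hm0)
  have hxD : x ∈ Subgroup.zpowers (c ^ m) :=
    key x hx (by rw [← hox]; exact pow_orderOf_eq_one x)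
  have hyD : y ∈ Subgroup.zpowers (c ^ m) :=
    key y hy (by rw [← hoy]; exact pow_orderOf_eq_one y)
  have heq : Subgroup.zpowers x = Subgroup.zpowers (c ^ m) := by
    apply Subgroup.eq_of_le_of_card_ge (Subgroup.zpowers_le.mpr hxD)
    rw [Nat.card_zpowers, Nat.card_zpowers, hcm, hox]
  rw [heq]
  exact hyD

/-- two commuting elements of order `p` of `G ⧸ K` lift into one Sylow `p`-subgroup of `G` -/
theorem U2_lift {G : Type u} [Group G] [Finite G] (K : Subgroup G) [K.Normal] (p : ℕ)
    [Fact p.Prime] (x y : G ⧸ K) (hx : orderOf x = p) (hy : orderOf y = p) (hc : x * y = y * x) :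
    ∃ (P : Sylow p G) (a b : G), a ∈ P ∧ b ∈ P ∧ (a : G ⧸ K) = x ∧ (b : G ⧸ K) = y := by
  have hA : IsPGroup p (Subgroup.zpowers x) :=
    IsPGroup.of_card (n := 1) (by rw [Nat.card_zpowers, hx, pow_one])
  have hB : IsPGroup p (Subgroup.zpowers y) :=
    IsPGroup.of_card (n := 1) (by rw [Nat.card_zpowers, hy, pow_one])
  have hle : Subgroup.zpowers x ≤ Subgroup.normalizer (Subgroup.zpowers y) := by
    rw [Subgroup.zpowers_le]
    apply Subgroup.centralizer_le_normalizer
    rw [Subgroup.mem_centralizer_iff]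
    intro h hh
    obtain ⟨k, rfl⟩ := Subgroup.mem_zpowers_iff.mp hh
    exact ((Commute.zpow_right (show Commute x y from hc) k).eq).symm
  have hAB := hA.to_sup_of_normal_right' hB hle
  obtain ⟨Q, hQ⟩ := hAB.exists_le_sylow
  obtain ⟨P, rfl⟩ := Sylow.mapSurjective_surjective (QuotientGroup.mk'_surjective K) p Q
  have hxQ : x ∈ (P : Subgroup G).map (QuotientGroup.mk' K) :=
    hQ (Subgroup.mem_sup_left (Subgroup.mem_zpowers x))
  have hyQ : y ∈ (P : Subgroup G).map (QuotientGroup.mk' K) :=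
    hQ (Subgroup.mem_sup_right (Subgroup.mem_zpowers y))
  obtain ⟨a, haP, hax⟩ := Subgroup.mem_map.mp hxQ
  obtain ⟨b, hbP, hby⟩ := Subgroup.mem_map.mp hyQ
  exact ⟨P, a, b, haP, hbP, hax, hby⟩

theorem U2_quotient {G : Type u} [Group G] [Finite G] (hU : PU G) (K : Subgroup G) [K.Normal]
    (hK : Odd (Nat.card K)) : PU (G ⧸ K) := by
  intro p x y hp hx hy hc
  haveI : Fact p.Prime := ⟨hp⟩
  obtain ⟨P, a, b, haP, hbP, hax, hby⟩ := U2_lift K p x y hx hy hc
  by_cases hp2 : p = 2
  · subst hp2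
    have hinj : ∀ u ∈ (P : Subgroup G), (u : G ⧸ K) = 1 → u = 1 := by
      intro u hu hu1
      have huK : u ∈ K := (QuotientGroup.eq_one_iff u).mp hu1
      have h1 : orderOf u ∣ Nat.card K := Subgroup.orderOf_dvd_natCard K huK
      obtain ⟨k, hk⟩ := P.2 ⟨u, hu⟩
      have h2 : orderOf u ∣ 2 ^ k := by
        apply orderOf_dvd_of_pow_eq_one
        have := congrArg Subtype.val hk
        simpa using this
      have hcop : Nat.Coprime (2 ^ k) (Nat.card K) :=
        Nat.Coprime.pow_left k (Nat.coprime_two_left.mpr hK)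
      have h3 : orderOf u ∣ 1 := by
        have := Nat.dvd_gcd h2 h1
        rwa [hcop] at this
      exact orderOf_eq_one_iff.mp (Nat.dvd_one.mp h3)
    have hx1 : x ≠ 1 := by
      rintro rfl
      rw [orderOf_one] at hx; omega
    have hy1 : y ≠ 1 := by
      rintro rfl
      rw [orderOf_one] at hy; omega
    have ha2 : orderOf a = 2 := by
      apply orderOf_eq_prime
      · apply hinj _ (Subgroup.pow_mem _ haP 2)
        rw [QuotientGroup.mk_pow, hax, ← hx]
        exact pow_orderOf_eq_one x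
      · rintro rfl
        exact hx1 (by rw [← hax]; rfl)
    have hb2 : orderOf b = 2 := by
      apply orderOf_eq_prime
      · apply hinj _ (Subgroup.pow_mem _ hbP 2)
        rw [QuotientGroup.mk_pow, hby, ← hy]
        exact pow_orderOf_eq_one y
      · rintro rfl
        exact hy1 (by rw [← hby]; rfl)
    have hab : a * b = b * a := by
      have h1 : a * b * (b * a)⁻¹ = 1 := by
        apply hinj _ (Subgroup.mul_mem _ (Subgroup.mul_mem _ haP hbP)
          (Subgroup.inv_mem _ (Subgroup.mul_mem _ hbP haP)))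
        rw [QuotientGroup.mk_mul, QuotientGroup.mk_inv, QuotientGroup.mk_mul, QuotientGroup.mk_mul,
          hax, hby, hc]
        exact mul_inv_cancel _
      exact mul_inv_eq_one.mp h1
    have hmem := hU 2 a b Nat.prime_two ha2 hb2 hab
    obtain ⟨k, hk⟩ := Subgroup.mem_zpowers_iff.mp hmem
    rw [Subgroup.mem_zpowers_iff]
    exact ⟨k, by rw [← hax, ← hby, ← hk, QuotientGroup.mk_zpow]⟩
  · rcases U1_pgroup hU p (P : Subgroup G) P.2 with hcyc | ⟨h2, -⟩
    · obtain ⟨g, hg⟩ := hcyc.exists_generator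
      have hmk : ∀ (w : G) (hw : w ∈ (P : Subgroup G)),
          (w : G ⧸ K) ∈ Subgroup.zpowers (((g : G) : G ⧸ K)) := by
        intro w hw
        obtain ⟨i, hi⟩ := Subgroup.mem_zpowers_iff.mp (hg ⟨w, hw⟩)
        rw [Subgroup.mem_zpowers_iff]
        refine ⟨i, ?_⟩
        rw [← QuotientGroup.mk_zpow]
        congr 1
        have := congrArg Subtype.val hi
        simpa using this
      refine U2_cyc p hp (((g : G) : G ⧸ K)) x y ?_ ?_ hx hy
      · rw [← hax]; exact hmk a haP
      · rw [← hby]; exact hmk b hbP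
    · exact absurd h2 hp2

end Cfsg.Agent.S3358L
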