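import Mathlib
import Cfsg.Prelude.Def_Solvable
import Cfsg.Agent.Lib.S3358.Defs
import Cfsg.Agent.Lib.S3358.QX
import Cfsg.Agent.Lib.S3358.U2
import Cfsg.Agent.H1.Cores
import Cfsg.Agent.H2.PPrimeCore

set_option autoImplicit false

namespace Cfsg.Agent.S3358L

universe u

/-- QL -/
theorem QL_exists {G : Type u} [Group G] [Finite G] (hs : Group.IsSolvable G) (hU : PU G) :
    ∃ G₀ : Subgroup G, G₀.Normal ∧ (∃ f : G →* Equiv.Perm (Fin 4), f.ker = G₀) ∧
      ∀ (p : ℕ) [Fact p.Prime] (P : Sylow p G₀), IsCyclic P := by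
  haveI : Fact (Nat.Prime 2) := ⟨Nat.prime_two⟩
  set K := Cfsg.pPrimeCore 2 G with hKdef
  haveI hKn : K.Normal := Cfsg.Agent.H1.pPrimeCore_normal 2
  have hKcop : (Nat.card K).Coprime 2 := Cfsg.Agent.H1.pPrimeCore_coprime 2
  have hKodd : Odd (Nat.card K) := Nat.coprime_two_left.mp hKcop.symm
  have hO : Cfsg.pPrimeCore 2 (G ⧸ K) = ⊥ := Cfsg.Agent.H2.pPrimeCore_quotient_eq_bot 2
  haveI := hs
  have hsX : Group.IsSolvable (G ⧸ K) := inferInstance
  have hUX : PU (G ⧸ K) := U2_quotient hU K hKodd
  obtain ⟨X₀, fbar, hker, hcyc, h2⟩ := QX_core_free hsX hUX hO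
  set f : G →* Equiv.Perm (Fin 4) := fbar.comp (QuotientGroup.mk' K) with hf
  refine ⟨f.ker, inferInstance, ⟨f, rfl⟩, ?_⟩
  intro p hp P
  have hpp : p.Prime := hp.out
  have hkerf : f.ker = X₀.comap (QuotientGroup.mk' K) := by
    rw [hf, ← MonoidHom.comap_ker, hker]
  by_cases hp2 : p = 2
  · subst hp2
    -- embed P into the cyclic group X₀
    have hmem : ∀ x : (P : Subgroup f.ker), (QuotientGroup.mk' K ((x : f.ker) : G)) ∈ X₀ := by
      intro x
      have hx : ((x : f.ker) : G) ∈ f.ker := (x : f.ker).2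
      have hx2 : ((x : f.ker) : G) ∈ X₀.comap (QuotientGroup.mk' K) := hkerf ▸ hx
      exact hx2
    let φ : (P : Subgroup f.ker) →* X₀ :=
      { toFun := fun x => ⟨QuotientGroup.mk' K ((x : f.ker) : G), hmem x⟩
        map_one' := by
          apply Subtype.ext
          simp
        map_mul' := by
          intro a b
          apply Subtype.ext
          simp }
    have hφinj : Function.Injective φ := by
      rw [injective_iff_map_eq_one]
      intro x hx
      have h1 : QuotientGroup.mk' K ((x : f.ker) : G) = 1 := by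
        have := congrArg Subtype.val hx
        simpa [φ] using this
      have hxK : ((x : f.ker) : G) ∈ K := by
        rw [← QuotientGroup.ker_mk' K, MonoidHom.mem_ker]
        exact h1
      -- x is a 2-element
      obtain ⟨j, hj⟩ := P.isPGroup' x
      have hj' : (((x : f.ker) : G)) ^ 2 ^ j = 1 := by
        have := congrArg (fun z : (P : Subgroup f.ker) => ((z : f.ker) : G)) hj
        simpa using this
      have hd1 : orderOf (((x : f.ker) : G)) ∣ 2 ^ j := orderOf_dvd_of_pow_eq_one hj'
      have hd2 : orderOf (((x : f.ker) : G)) ∣ Nat.card K := by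
        have := orderOf_dvd_natCard (⟨_, hxK⟩ : K)
        rwa [Subgroup.orderOf_mk] at this
      have hcop : Nat.Coprime (2 ^ j) (Nat.card K) := Nat.Coprime.pow_left j hKcop.symm
      have h1' : orderOf (((x : f.ker) : G)) = 1 :=
        Nat.eq_one_of_dvd_coprimes hcop hd1 hd2
      have : ((x : f.ker) : G) = 1 := orderOf_eq_one_iff.mp h1'
      apply Subtype.ext
      apply Subtype.ext
      simpa using this
    haveI := hcyc
    exact isCyclic_of_injective φ hφinj
  · -- odd p: use U1 on the image in G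
    let P' : Subgroup G := ((P : Subgroup f.ker)).map f.ker.subtype
    have hP' : IsPGroup p P' := P.isPGroup'.map f.ker.subtype
    have e : (P : Subgroup f.ker) ≃* P' :=
      Subgroup.equivMapOfInjective _ _ (Subgroup.subtype_injective _)
    rcases U1_pgroup hU p P' hP' with hc | ⟨h2', -⟩
    · exact isCyclic_of_surjective e.symm.toMonoidHom e.symm.surjective
    · exact absurd h2' hp2

end Cfsg.Agent.S3358L
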