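import Mathlib
import Cfsg.Agent.Lib.S3358.Defs

set_option autoImplicit false

namespace Cfsg.Agent.S3358L

universe u

/-- in a group with `X ^ n = 1`, `Y ^ m = 1`, `X⁻¹ Y X = Y ^ r` (`n, m ≥ 1`) generated (as in
`PresentedGroup.generated_by`) by `X, Y`, every element is `X ^ i * Y ^ j`, `i < n`, `j < m` -/
theorem Z1b_normal_form {P : Type*} [Group P] (X Y : P) (n m r : ℕ) (hn : 0 < n) (hm : 0 < m)
    (hX : X ^ n = 1) (hY : Y ^ m = 1) (hXY : X⁻¹ * Y * X = Y ^ r)
    (hgen : ∀ H : Subgroup P, X ∈ H → Y ∈ H → ∀ p : P, p ∈ H) (p : P) :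
    ∃ i j : ℕ, i < n ∧ j < m ∧ p = X ^ i * Y ^ j := by
  -- the set of normal forms with arbitrary natural exponents
  let S : Set P := {p | ∃ i j : ℕ, p = X ^ i * Y ^ j}
  have hSY : ∀ s ∈ S, s * Y ∈ S := by
    rintro s ⟨i, j, rfl⟩
    exact ⟨i, j + 1, by rw [pow_succ, mul_assoc]⟩
  have hconj : ∀ j : ℕ, X⁻¹ * Y ^ j * X = Y ^ (r * j) := by
    intro j
    induction j with
    | zero => simp
    | succ j ih =>
      have : X⁻¹ * Y ^ (j + 1) * X = (X⁻¹ * Y ^ j * X) * (X⁻¹ * Y * X) := by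
        rw [pow_succ]; group
      rw [this, ih, hXY, ← pow_add]
      congr 1
  have hSX : ∀ s ∈ S, s * X ∈ S := by
    rintro s ⟨i, j, rfl⟩
    refine ⟨i + 1, r * j, ?_⟩
    rw [← hconj j, pow_succ]
    group
  have hSXk : ∀ k : ℕ, ∀ s ∈ S, s * X ^ k ∈ S := by
    intro k
    induction k with
    | zero => intro s hs; simpa using hs
    | succ k ih =>
      intro s hs
      rw [pow_succ, ← mul_assoc]
      exact hSX _ (ih s hs)
  have hSYk : ∀ k : ℕ, ∀ s ∈ S, s * Y ^ k ∈ S := by
    intro k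
    induction k with
    | zero => intro s hs; simpa using hs
    | succ k ih =>
      intro s hs
      rw [pow_succ, ← mul_assoc]
      exact hSY _ (ih s hs)
  have hXinv : X⁻¹ = X ^ (n - 1) := by
    rw [inv_eq_iff_mul_eq_one, ← pow_succ']
    rw [show n - 1 + 1 = n by omega, hX]
  have hYinv : Y⁻¹ = Y ^ (m - 1) := by
    rw [inv_eq_iff_mul_eq_one, ← pow_succ']
    rw [show m - 1 + 1 = m by omega, hY]
  let H : Subgroup P :=
    { carrier := {p | (∀ s ∈ S, s * p ∈ S) ∧ (∀ s ∈ S, s * p⁻¹ ∈ S)}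
      mul_mem' := by
        rintro a b ⟨ha1, ha2⟩ ⟨hb1, hb2⟩
        refine ⟨fun s hs => ?_, fun s hs => ?_⟩
        · rw [← mul_assoc]; exact hb1 _ (ha1 s hs)
        · rw [mul_inv_rev, ← mul_assoc]; exact ha2 _ (hb2 s hs)
      one_mem' := by
        refine ⟨fun s hs => ?_, fun s hs => ?_⟩
        · simpa using hs
        · simpa using hs
      inv_mem' := by
        rintro a ⟨ha1, ha2⟩
        refine ⟨ha2, ?_⟩
        simpa using ha1 }
  have hXH : X ∈ H := ⟨hSX, fun s hs => by rw [hXinv]; exact hSXk _ s hs⟩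
  have hYH : Y ∈ H := ⟨hSY, fun s hs => by rw [hYinv]; exact hSYk _ s hs⟩
  have hp : p ∈ H := hgen H hXH hYH p
  have h1 : (1 : P) ∈ S := ⟨0, 0, by simp⟩
  obtain ⟨i, j, hij⟩ : p ∈ S := by
    have := hp.1 1 h1
    simpa using this
  refine ⟨i % n, j % m, Nat.mod_lt _ hn, Nat.mod_lt _ hm, ?_⟩
  rw [hij, ← pow_eq_pow_mod i hX, ← pow_eq_pow_mod j hY]

/-- Z1b: the presentation -/
theorem Z1b_presentation {Z : Type u} [Group Z] [Finite Z] (x y : Z) (r : ℕ)
    (hcard : Nat.card Z = orderOf x * orderOf y) (hrel : x⁻¹ * y * x = y ^ r)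
    (hgen : Subgroup.closure {x, y} = ⊤) :
    Nonempty (Z ≃* PresentedGroup (rels (orderOf x) (orderOf y) r)) := by
  classical
  set n := orderOf x with hn_def
  set m := orderOf y with hm_def
  have hn : 0 < n := orderOf_pos x
  have hm : 0 < m := orderOf_pos y
  let f : Fin 2 → Z := ![x, y]
  have hf0 : f 0 = x := rfl
  have hf1 : f 1 = y := rfl
  have hrels : ∀ w ∈ rels n m r, FreeGroup.lift f w = 1 := by
    intro w hw
    simp only [rels, Set.mem_insert_iff, Set.mem_singleton_iff] at hw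
    rcases hw with rfl | rfl | rfl
    · rw [map_pow, FreeGroup.lift_apply_of, hf0]
      exact pow_orderOf_eq_one x
    · rw [map_pow, FreeGroup.lift_apply_of, hf1]
      exact pow_orderOf_eq_one y
    · rw [map_mul, map_mul, map_mul, map_inv, map_inv, map_pow, FreeGroup.lift_apply_of,
        FreeGroup.lift_apply_of, hf0, hf1, hrel, mul_inv_cancel]
  let φ : PresentedGroup (rels n m r) →* Z := PresentedGroup.toGroup hrels
  let X : PresentedGroup (rels n m r) := PresentedGroup.of 0
  let Y : PresentedGroup (rels n m r) := PresentedGroup.of 1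
  have hφX : φ X = x := PresentedGroup.toGroup.of hrels
  have hφY : φ Y = y := PresentedGroup.toGroup.of hrels
  have hXn : X ^ n = 1 := by
    have : PresentedGroup.mk (rels n m r) (FreeGroup.of (0 : Fin 2) ^ n) = 1 :=
      PresentedGroup.one_of_mem (by simp [rels])
    rwa [map_pow] at this
  have hYm : Y ^ m = 1 := by
    have : PresentedGroup.mk (rels n m r) (FreeGroup.of (1 : Fin 2) ^ m) = 1 :=
      PresentedGroup.one_of_mem (by simp [rels])
    rwa [map_pow] at this
  have hXY : X⁻¹ * Y * X = Y ^ r := by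
    have : PresentedGroup.mk (rels n m r) ((FreeGroup.of (0 : Fin 2))⁻¹ * FreeGroup.of 1 *
        FreeGroup.of 0 * (FreeGroup.of (1 : Fin 2) ^ r)⁻¹) = 1 :=
      PresentedGroup.one_of_mem (by simp [rels])
    rw [map_mul, map_mul, map_mul, map_inv, map_inv, map_pow] at this
    exact mul_inv_eq_one.mp this
  have hgenP : ∀ H : Subgroup (PresentedGroup (rels n m r)), X ∈ H → Y ∈ H →
      ∀ p : PresentedGroup (rels n m r), p ∈ H := by
    intro H hX hY p
    refine PresentedGroup.generated_by _ H ?_ p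
    intro j
    fin_cases j
    · exact hX
    · exact hY
  have hnf := Z1b_normal_form X Y n m r hn hm hXn hYm hXY hgenP
  -- surjection from `Fin n × Fin m`
  let g : Fin n × Fin m → PresentedGroup (rels n m r) := fun ij => X ^ (ij.1 : ℕ) * Y ^ (ij.2 : ℕ)
  have hg : Function.Surjective g := by
    intro p
    obtain ⟨i, j, hi, hj, rfl⟩ := hnf p
    exact ⟨(⟨i, hi⟩, ⟨j, hj⟩), rfl⟩
  haveI : Finite (PresentedGroup (rels n m r)) := Finite.of_surjective g hg
  have hcardP : Nat.card (PresentedGroup (rels n m r)) ≤ n * m := by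
    have := Nat.card_le_card_of_surjective g hg
    simpa using this
  have hφsurj : Function.Surjective φ := by
    rw [← MonoidHom.range_eq_top, eq_top_iff, ← hgen, Subgroup.closure_le]
    rintro z (rfl | rfl)
    · exact ⟨X, hφX⟩
    · exact ⟨Y, hφY⟩
  have hφbij : Function.Bijective φ := by
    rw [Nat.bijective_iff_surjective_and_card]
    refine ⟨hφsurj, le_antisymm ?_ (Nat.card_le_card_of_surjective φ hφsurj)⟩
    rw [hcard]
    exact hcardP
  exact ⟨(MulEquiv.ofBijective φ hφbij).symm⟩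

end Cfsg.Agent.S3358L
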