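import Mathlib
import Cfsg.Agent.Lib.S3358.Defs
import Cfsg.Agent.Lib.S3358.Z1b
import Cfsg.Agent.S0035
import Cfsg.Agent.S0039
import Cfsg.Agent.H2.FrobComplSylow
import Cfsg.Agent.H2.FrobComplPQ

set_option autoImplicit false

namespace Cfsg.Agent.S3358L

open Cfsg.Agent.S4292L

universe u

/-- same prime: an element of order `p` normalizing a subgroup of order `p` lies in it -/
theorem T0_core_same {L : Type*} [Group L] [Finite L] (K H : Subgroup L) [K.Normal] (hK : K ≠ ⊥)
    (hfpf : ∀ h ∈ H, h ≠ 1 → K ⊓ Subgroup.centralizer {h} = ⊥)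
    (p : ℕ) [Fact p.Prime] (α β : H) (hα : orderOf α = p) (hβ : orderOf β = p)
    (hn : α * β * α⁻¹ ∈ Subgroup.zpowers β) : β ∈ Subgroup.zpowers α := by
  classical
  have h1 : IsPGroup p (Subgroup.zpowers α) :=
    IsPGroup.of_card (n := 1) (by rw [Nat.card_zpowers, hα, pow_one])
  have h2 : IsPGroup p (Subgroup.zpowers β) :=
    IsPGroup.of_card (n := 1) (by rw [Nat.card_zpowers, hβ, pow_one])
  have hnorm : Subgroup.zpowers α ≤ Subgroup.normalizer (Subgroup.zpowers β : Set H) := by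
    rw [Subgroup.zpowers_le]
    -- conjugation by α maps zpowers β into itself, hence (finite) onto itself
    have hsub : ∀ x ∈ Subgroup.zpowers β, α * x * α⁻¹ ∈ Subgroup.zpowers β := by
      rintro x ⟨k, rfl⟩
      have : α * β ^ k * α⁻¹ = (α * β * α⁻¹) ^ k := by
        simp [conj_zpow]
      rw [this]
      exact Subgroup.zpow_mem _ hn k
    rw [Subgroup.mem_normalizer_iff]
    intro x
    refine ⟨hsub x, ?_⟩
    intro hx
    -- the injective self-map `x ↦ α x α⁻¹` of the finite set `zpowers β` is surjective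
    let f : Subgroup.zpowers β → Subgroup.zpowers β := fun y => ⟨α * y * α⁻¹, hsub y y.2⟩
    have hf : Function.Injective f := by
      intro y z hyz
      have := congrArg Subtype.val hyz
      simp only [f] at this
      exact Subtype.ext (by simpa using this)
    obtain ⟨y, hy⟩ := (Finite.injective_iff_surjective.mp hf) ⟨α * x * α⁻¹, hx⟩
    have := congrArg Subtype.val hy
    simp only [f] at this
    have hxy : (y : H) = x := by simpa using this
    rw [← hxy]
    exact y.2
  have hQ : IsPGroup p (Subgroup.zpowers α ⊔ Subgroup.zpowers β : Subgroup H) :=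
    IsPGroup.to_sup_of_normal_right' h1 h2 hnorm
  obtain ⟨P, hP⟩ := hQ.exists_le_sylow
  have hαP : α ∈ (P : Subgroup H) := hP (Subgroup.mem_sup_left (Subgroup.mem_zpowers α))
  have hβP : β ∈ (P : Subgroup H) := hP (Subgroup.mem_sup_right (Subgroup.mem_zpowers β))
  have hUV := Cfsg.Agent.H2.FCS.huniq_of_fpf K H hK hfpf p P
    (Subgroup.zpowers ⟨α, hαP⟩) (Subgroup.zpowers ⟨β, hβP⟩)
    (by rw [Nat.card_zpowers, Subgroup.orderOf_mk, hα])
    (by rw [Nat.card_zpowers, Subgroup.orderOf_mk, hβ])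
  have hmem : (⟨β, hβP⟩ : ↥(P : Subgroup H)) ∈ Subgroup.zpowers ⟨α, hαP⟩ := by
    rw [hUV]; exact Subgroup.mem_zpowers _
  obtain ⟨k, hk⟩ := hmem
  refine ⟨k, ?_⟩
  have := congrArg (fun z : ↥(P : Subgroup H) => (z : H)) hk
  simpa using this

/-- different primes: a subgroup of order `p q` is cyclic -/
theorem T0_core_diff {L : Type*} [Group L] [Finite L] (K H : Subgroup L) [K.Normal] (hK : K ≠ ⊥)
    (hfpf : ∀ h ∈ H, h ≠ 1 → K ⊓ Subgroup.centralizer {h} = ⊥)
    (p q : ℕ) (hp : p.Prime) (hq : q.Prime) (hpq : p ≠ q) (a b : L) (ha : a ∈ H) (hb : b ∈ H)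
    (hoa : orderOf a = p) (hob : orderOf b = q) (hn : a * b * a⁻¹ ∈ Subgroup.zpowers b) :
    a * b = b * a := by
  classical
  let A : Subgroup L := Subgroup.closure {a, b}
  have haA : a ∈ A := Subgroup.subset_closure (by simp)
  have hbA : b ∈ A := Subgroup.subset_closure (by simp)
  have hAH : A ≤ H := by
    rw [Subgroup.closure_le]
    rintro x (rfl | rfl)
    · exact ha
    · exact hb
  obtain ⟨r, hr⟩ : ∃ r : ℕ, b ^ r = a * b * a⁻¹ := by
    have := (mem_powers_iff_mem_zpowers).mpr hn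
    exact this
  let X : A := ⟨a⁻¹, A.inv_mem haA⟩
  let Y : A := ⟨b, hbA⟩
  have hXp : X ^ p = 1 := by
    apply Subtype.ext
    show (a⁻¹) ^ p = 1
    rw [inv_pow, ← hoa, pow_orderOf_eq_one, inv_one]
  have hYq : Y ^ q = 1 := by
    apply Subtype.ext
    show b ^ q = 1
    rw [← hob, pow_orderOf_eq_one]
  have hXY : X⁻¹ * Y * X = Y ^ r := by
    apply Subtype.ext
    show (a⁻¹)⁻¹ * b * a⁻¹ = b ^ r
    rw [inv_inv, hr]
  have hgen : ∀ H' : Subgroup A, X ∈ H' → Y ∈ H' → ∀ z : A, z ∈ H' := by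
    intro H' hX hY z
    have hle : A ≤ H'.map A.subtype := by
      rw [Subgroup.closure_le]
      intro x hx
      rcases hx with h | h
      · refine ⟨X⁻¹, H'.inv_mem hX, ?_⟩
        show (a⁻¹)⁻¹ = x
        rw [inv_inv, h]
      · exact ⟨Y, hY, h.symm⟩
    obtain ⟨w, hw, hwz⟩ := hle z.2
    have : w = z := Subtype.ext hwz
    rwa [← this]
  have hnf := Z1b_normal_form X Y p q r hp.pos hq.pos hXp hYq hXY hgen
  let g : Fin p × Fin q → A := fun ij => X ^ (ij.1 : ℕ) * Y ^ (ij.2 : ℕ)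
  have hg : Function.Surjective g := by
    intro z
    obtain ⟨i, j, hi, hj, rfl⟩ := hnf z
    exact ⟨(⟨i, hi⟩, ⟨j, hj⟩), rfl⟩
  have hle : Nat.card A ≤ p * q := by
    have := Nat.card_le_card_of_surjective g hg
    simpa using this
  have hpA : p ∣ Nat.card A := by
    have : orderOf (⟨a, haA⟩ : A) = p := by rw [Subgroup.orderOf_mk, hoa]
    rw [← this]
    exact orderOf_dvd_natCard _
  have hqA : q ∣ Nat.card A := by
    have : orderOf Y = q := by rw [Subgroup.orderOf_mk, hob]
    rw [← this]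
    exact orderOf_dvd_natCard _
  have hcop : p.Coprime q := (Nat.coprime_primes hp hq).mpr hpq
  have hdvd : p * q ∣ Nat.card A := hcop.mul_dvd_of_dvd_of_dvd hpA hqA
  have hcard : Nat.card A = p * q :=
    le_antisymm hle (Nat.le_of_dvd Nat.card_pos hdvd)
  have hcyc : IsCyclic A :=
    Cfsg.Agent.H2.FCPQ.isCyclic_of_card_pq K A hK (fun x hx => hfpf x (hAH hx)) p q hp hq hcard
  letI := hcyc.commGroup
  have := mul_comm (⟨a, haA⟩ : A) ⟨b, hbA⟩
  exact congrArg Subtype.val this

/-- T0 -/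
theorem T0_props {G : Type u} [Group G] [Finite G] (h : IsFC G) : PU G ∧ PB G := by
  classical
  obtain ⟨L, iL, iF, H, hH, ⟨e⟩⟩ := h
  obtain ⟨N, -, hNn, hNc⟩ := Cfsg.Agent.S0035.result H hH
  have := hNn
  have hN : N ≠ ⊥ := by
    intro h0
    rw [h0, Subgroup.isComplement'_bot_left] at hNc
    exact hH.2.1 hNc
  have hfpf := (Cfsg.Agent.S0039.result N H hNc hN hH.1).mp hH
  have hsame : ∀ (p : ℕ) (a b : G), p.Prime → orderOf a = p → orderOf b = p →
      a * b * a⁻¹ ∈ Subgroup.zpowers b → b ∈ Subgroup.zpowers a := by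
    intro p a b hp ha hb hn
    haveI : Fact p.Prime := ⟨hp⟩
    have hn' : e a * e b * (e a)⁻¹ ∈ Subgroup.zpowers (e b) := by
      obtain ⟨k, hk⟩ := Subgroup.mem_zpowers_iff.mp hn
      refine Subgroup.mem_zpowers_iff.mpr ⟨k, ?_⟩
      rw [← map_zpow, hk, map_mul, map_mul, map_inv]
    obtain ⟨k, hk⟩ := Subgroup.mem_zpowers_iff.mp (T0_core_same N H hN hfpf p (e a) (e b)
      (by rw [MulEquiv.orderOf_eq, ha]) (by rw [MulEquiv.orderOf_eq, hb]) hn')
    refine Subgroup.mem_zpowers_iff.mpr ⟨k, ?_⟩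
    apply e.injective
    rw [map_zpow]
    exact hk
  refine ⟨?_, ?_⟩
  · intro p a b hp ha hb hab
    apply hsame p a b hp ha hb
    rw [hab, mul_inv_cancel_right]
    exact Subgroup.mem_zpowers b
  · intro p q a b hp hq ha hb hn
    by_cases hpq : p = q
    · subst hpq
      obtain ⟨k, hk⟩ := Subgroup.mem_zpowers_iff.mp (hsame p a b hp ha hb hn)
      rw [← hk]
      exact ((Commute.refl a).zpow_right k).eq
    · have hn' : ((e a : H) : L) * ((e b : H) : L) * ((e a : H) : L)⁻¹ ∈
          Subgroup.zpowers ((e b : H) : L) := by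
        obtain ⟨k, hk⟩ := Subgroup.mem_zpowers_iff.mp hn
        refine Subgroup.mem_zpowers_iff.mpr ⟨k, ?_⟩
        have : e b ^ k = e a * e b * (e a)⁻¹ := by
          rw [← map_zpow, hk, map_mul, map_mul, map_inv]
        have := congrArg (fun z : H => (z : L)) this
        simpa using this
      have hcomm := T0_core_diff N H hN hfpf p q hp hq hpq ((e a : H) : L) ((e b : H) : L)
        (e a).2 (e b).2 (by rw [Subgroup.orderOf_coe, MulEquiv.orderOf_eq, ha])
        (by rw [Subgroup.orderOf_coe, MulEquiv.orderOf_eq, hb]) hn'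
      apply e.injective
      apply Subtype.ext
      rw [map_mul, map_mul]
      exact hcomm

end Cfsg.Agent.S3358L
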