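import Mathlib
import Cfsg.Agent.Lib.S3358.Defs

set_option autoImplicit false

namespace Cfsg.Agent.S3358L

universe u

/-- U3: `PU` and `PB` pass to subgroups -/
theorem U3_subgroup {G : Type u} [Group G] (H : Subgroup G) :
    (PU G → PU H) ∧ (PB G → PB H) := by
  constructor
  · intro hU p a b hp ha hb hab
    have h1 : orderOf (a : G) = p := by rw [Subgroup.orderOf_coe]; exact ha
    have h2 : orderOf (b : G) = p := by rw [Subgroup.orderOf_coe]; exact hb
    have h3 : (a : G) * b = b * a := by exact_mod_cast congrArg Subtype.val hab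
    obtain ⟨k, hk⟩ := Subgroup.mem_zpowers_iff.mp (hU p a b hp h1 h2 h3)
    exact Subgroup.mem_zpowers_iff.mpr ⟨k, Subtype.ext (by simpa using hk)⟩
  · intro hB p q a b hp hq ha hb hab
    have h1 : orderOf (a : G) = p := by rw [Subgroup.orderOf_coe]; exact ha
    have h2 : orderOf (b : G) = q := by rw [Subgroup.orderOf_coe]; exact hb
    have h3 : (a : G) * b * (a : G)⁻¹ ∈ Subgroup.zpowers (b : G) := by
      obtain ⟨k, hk⟩ := Subgroup.mem_zpowers_iff.mp hab
      refine Subgroup.mem_zpowers_iff.mpr ⟨k, ?_⟩
      have := congrArg Subtype.val hk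
      simpa using this
    have h4 := hB p q a b hp hq h1 h2 h3
    exact Subtype.ext (by simpa using h4)

end Cfsg.Agent.S3358L
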