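import Mathlib
import Cfsg.Agent.Lib.S3358.Defs

/-!
# S3358, piece Z1a: metacyclic structure of a Z-group

A finite group all of whose Sylow subgroups are cyclic is generated by `x` and `y` with
`⟨y⟩` the commutator subgroup, `⟨x⟩` a complement, coprime orders, `x⁻¹ y x = y ^ r` and
`(r - 1, o(y)) = 1`.
-/

set_option autoImplicit false

namespace Cfsg.Agent.S3358L

universe u

/-- a subgroup generated (inside itself) by `g₀` equals `zpowers (g₀ : G)` -/
theorem Z1a_eq_zpowers {G : Type u} [Group G] (K : Subgroup G) (g₀ : K)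
    (hg : ∀ k : K, k ∈ Subgroup.zpowers g₀) : K = Subgroup.zpowers (g₀ : G) := by
  ext h
  constructor
  · intro hh
    obtain ⟨k, hk⟩ := Subgroup.mem_zpowers_iff.mp (hg ⟨h, hh⟩)
    refine Subgroup.mem_zpowers_iff.mpr ⟨k, ?_⟩
    have := congrArg Subtype.val hk
    simpa using this
  · intro hh
    obtain ⟨k, hk⟩ := Subgroup.mem_zpowers_iff.mp hh
    rw [← hk]
    exact K.zpow_mem g₀.2 k

/-- a group generated by two commuting elements is commutative -/
theorem Z1a_comm_of_closure {Q : Type u} [Group Q] (a b : Q) (hab : a * b = b * a)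
    (hgen : Subgroup.closure {a, b} = ⊤) : ∀ g h : Q, g * h = h * g := by
  have hca : a ∈ Subgroup.center Q := by
    have h1 : Subgroup.closure {a, b} ≤ Subgroup.centralizer {a} := by
      rw [Subgroup.closure_le]
      intro t ht
      rcases ht with rfl | rfl
      · exact Subgroup.mem_centralizer_iff.mpr (fun s hs => by
          rw [Set.mem_singleton_iff] at hs; subst hs; rfl)
      · exact Subgroup.mem_centralizer_iff.mpr (fun s hs => by
          rw [Set.mem_singleton_iff] at hs; subst hs; exact hab)
    rw [Subgroup.mem_center_iff]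
    intro g
    have hg : g ∈ Subgroup.centralizer {a} := h1 (hgen ▸ Subgroup.mem_top g)
    exact (Subgroup.mem_centralizer_iff.mp hg a rfl).symm
  have hcb : b ∈ Subgroup.center Q := by
    have h1 : Subgroup.closure {a, b} ≤ Subgroup.centralizer {b} := by
      rw [Subgroup.closure_le]
      intro t ht
      rcases ht with rfl | rfl
      · exact Subgroup.mem_centralizer_iff.mpr (fun s hs => by
          rw [Set.mem_singleton_iff] at hs; subst hs; exact hab.symm)
      · exact Subgroup.mem_centralizer_iff.mpr (fun s hs => by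
          rw [Set.mem_singleton_iff] at hs; subst hs; rfl)
    rw [Subgroup.mem_center_iff]
    intro g
    have hg : g ∈ Subgroup.centralizer {b} := h1 (hgen ▸ Subgroup.mem_top g)
    exact (Subgroup.mem_centralizer_iff.mp hg b rfl).symm
  have htop : Subgroup.center Q = ⊤ := by
    rw [eq_top_iff, ← hgen, Subgroup.closure_le]
    intro t ht
    rcases ht with rfl | rfl
    · exact hca
    · exact hcb
  intro g h
  have hg : g ∈ Subgroup.center Q := htop ▸ Subgroup.mem_top g
  exact (Subgroup.mem_center_iff.mp hg h).symm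

/-- Z1a: metacyclic structure of a Z-group -/
theorem Z1a_structure {Z : Type u} [Group Z] [Finite Z]
    (hZ : ∀ (p : ℕ) [Fact p.Prime] (P : Sylow p Z), IsCyclic P) :
    ∃ (x y : Z) (r : ℕ), 1 ≤ r ∧ (orderOf x).Coprime (orderOf y) ∧
      Nat.card Z = orderOf x * orderOf y ∧ x⁻¹ * y * x = y ^ r ∧
      Nat.Coprime (r - 1) (orderOf y) ∧ Subgroup.closure {x, y} = ⊤ := by
  classical
  have hG : IsZGroup Z := ⟨fun p hp P => by
    have := Fact.mk hp
    exact hZ p P⟩
  obtain ⟨H, hH⟩ := Subgroup.exists_right_complement'_of_coprime hG.coprime_commutator_index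
  have h1 : Abelianization Z ≃* H := hH.symm.QuotientMulEquiv
  have hHc : IsCyclic H := isCyclic_of_surjective _ h1.surjective
  have hNc : IsCyclic (commutator Z) := hG.isCyclic_commutator
  obtain ⟨x₀, hx₀⟩ := hHc.exists_generator
  obtain ⟨y₀, hy₀⟩ := hNc.exists_generator
  have hox : orderOf (x₀ : Z) = Nat.card H := by
    rw [Subgroup.orderOf_coe]; exact orderOf_eq_card_of_forall_mem_zpowers hx₀
  have hoy : orderOf (y₀ : Z) = Nat.card (commutator Z) := by
    rw [Subgroup.orderOf_coe]; exact orderOf_eq_card_of_forall_mem_zpowers hy₀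
  have hHx : H = Subgroup.zpowers (x₀ : Z) := Z1a_eq_zpowers H x₀ hx₀
  have hNy : commutator Z = Subgroup.zpowers (y₀ : Z) := Z1a_eq_zpowers _ y₀ hy₀
  have hcardmul : Nat.card (commutator Z) * Nat.card H = Nat.card Z := hH.card_mul_card
  have hidx : (commutator Z).index = Nat.card H := by
    have h2 := (commutator Z).card_mul_index
    have hpos : 0 < Nat.card (commutator Z) := Nat.card_pos
    exact Nat.eq_of_mul_eq_mul_left hpos (h2.trans hcardmul.symm)
  have hcop : (Nat.card (commutator Z)).Coprime (Nat.card H) := by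
    have := hG.coprime_commutator_index
    rwa [hidx] at this
  obtain ⟨x, hxH, hox, hHx⟩ : ∃ x : Z, x ∈ H ∧ orderOf x = Nat.card H ∧
      H = Subgroup.zpowers x := ⟨x₀, x₀.2, hox, hHx⟩
  obtain ⟨y, hyN, hoy, hNy⟩ : ∃ y : Z, y ∈ commutator Z ∧
      orderOf y = Nat.card (commutator Z) ∧ commutator Z = Subgroup.zpowers y :=
    ⟨y₀, y₀.2, hoy, hNy⟩
  -- the conjugation relation
  have hconj : x⁻¹ * y * x ∈ commutator Z := by
    have := (inferInstance : (commutator Z).Normal).conj_mem y hyN (x⁻¹)
    simpa using this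
  rw [hNy, ← mem_powers_iff_mem_zpowers] at hconj
  obtain ⟨n, hn⟩ := (Submonoid.mem_powers_iff _ _).mp hconj
  have hypos : 0 < orderOf y := orderOf_pos _
  set r : ℕ := n + orderOf y with hr
  have hyr : y ^ r = y ^ n := by
    rw [hr, pow_add, pow_orderOf_eq_one, mul_one]
  have hrel : x⁻¹ * y * x = y ^ r := by rw [hyr]; exact hn.symm
  have hgen : Subgroup.closure {x, y} = ⊤ := by
    have hsup : commutator Z ⊔ H = ⊤ := hH.sup_eq_top
    rw [eq_top_iff, ← hsup, sup_le_iff]
    constructor
    · rw [hNy, Subgroup.zpowers_le]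
      exact Subgroup.subset_closure (by simp)
    · rw [hHx, Subgroup.zpowers_le]
      exact Subgroup.subset_closure (by simp)
  have hr1 : 1 ≤ r := by omega
  refine ⟨x, y, r, hr1, ?_, ?_, hrel, ?_, hgen⟩
  · rw [hox, hoy]; exact hcop.symm
  · rw [hox, hoy, mul_comm]; exact hcardmul.symm
  · -- `(r - 1, o(y)) = 1`
    set M : Subgroup Z := Subgroup.zpowers (y ^ (r - 1)) with hM
    have hMN : M ≤ commutator Z := by
      rw [hM, Subgroup.zpowers_le, hNy]
      exact Subgroup.pow_mem _ (Subgroup.mem_zpowers y) _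
    -- conjugates of `y` are powers of `y`
    have hconjy : ∀ g : Z, ∃ k : ℤ, g * y * g⁻¹ = y ^ k := by
      intro g
      have h2 : g * y * g⁻¹ ∈ commutator Z :=
        (inferInstance : (commutator Z).Normal).conj_mem y hyN g
      rw [hNy] at h2
      obtain ⟨k, hk⟩ := Subgroup.mem_zpowers_iff.mp h2
      exact ⟨k, hk.symm⟩
    have hMnormal : M.Normal := by
      refine ⟨fun m hm g => ?_⟩
      obtain ⟨j, hj⟩ := Subgroup.mem_zpowers_iff.mp hm
      obtain ⟨k, hk⟩ := hconjy g
      have h3 : g * m * g⁻¹ = (y ^ (r - 1)) ^ (k * j) := by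
        rw [← hj]
        have h4 : g * (y ^ (r - 1)) ^ j * g⁻¹ = (g * y * g⁻¹) ^ ((r - 1 : ℕ) * j : ℤ) := by
          rw [zpow_mul, zpow_natCast, conj_pow, conj_zpow]
        rw [h4, hk, ← zpow_natCast y (r - 1), ← zpow_mul, ← zpow_mul]
        congr 1
        ring
      rw [h3]
      exact Subgroup.zpow_mem_zpowers _ _
    -- the quotient by `M` is abelian
    have hqcomm : ∀ a b : Z ⧸ M, a * b = b * a := by
      apply Z1a_comm_of_closure ((QuotientGroup.mk' M) x) ((QuotientGroup.mk' M) y)
      · -- images commute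
        have hy1 : (QuotientGroup.mk' M) (y ^ (r - 1)) = 1 := by
          rw [QuotientGroup.mk'_apply, QuotientGroup.eq_one_iff]
          exact Subgroup.mem_zpowers _
        have hyr' : (QuotientGroup.mk' M) (y ^ r) = (QuotientGroup.mk' M) y := by
          have : y ^ r = y ^ (r - 1) * y := by
            rw [← pow_succ]; congr 1; omega
          rw [this, map_mul, hy1, one_mul]
        have h5 : (QuotientGroup.mk' M) (x⁻¹ * y * x) = (QuotientGroup.mk' M) y := by
          rw [hrel, hyr']
        rw [map_mul, map_mul, map_inv] at h5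
        -- x̄⁻¹ ȳ x̄ = ȳ  ⇒  ȳ x̄ = x̄ ȳ
        have h6 := congrArg (fun t => (QuotientGroup.mk' M) x * t) h5
        simp only [mul_assoc, mul_inv_cancel_left] at h6
        exact h6.symm
      · have hsurj : Function.Surjective (QuotientGroup.mk' M) := QuotientGroup.mk'_surjective M
        have h7 : Subgroup.map (QuotientGroup.mk' M) (Subgroup.closure {x, y}) = ⊤ := by
          rw [hgen]; exact Subgroup.map_top_of_surjective _ hsurj
        rw [MonoidHom.map_closure] at h7
        rw [← h7]
        congr 1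
        ext t
        simp [Set.image_pair]
    have hNM : commutator Z ≤ M := by
      rw [commutator_def, Subgroup.commutator_le]
      intro g₁ _ g₂ _
      rw [← QuotientGroup.eq_one_iff, ← QuotientGroup.mk'_apply, map_commutatorElement,
        commutatorElement_eq_one_iff_commute]
      exact hqcomm _ _
    -- compare cardinalities
    have hcardM : Nat.card M = orderOf y / Nat.gcd (orderOf y) (r - 1) := by
      rw [hM, Nat.card_zpowers, orderOf_pow]
    have hle : Nat.card (commutator Z) ≤ Nat.card M := Subgroup.card_le_of_le hNM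
    rw [hcardM, ← hoy] at hle
    have hgd : Nat.gcd (orderOf y) (r - 1) ∣ orderOf y := Nat.gcd_dvd_left _ _
    obtain ⟨c, hc⟩ := hgd
    have hgpos : 0 < Nat.gcd (orderOf y) (r - 1) := Nat.gcd_pos_of_pos_left _ hypos
    have hdiv : orderOf y / Nat.gcd (orderOf y) (r - 1) = c :=
      Nat.div_eq_of_eq_mul_right hgpos hc
    rw [hdiv] at hle
    have hcpos : 0 < c := by
      rcases Nat.eq_zero_or_pos c with h0 | h0
      · rw [h0, mul_zero] at hc; omega
      · exact h0
    have hg1 : Nat.gcd (orderOf y) (r - 1) = 1 := by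
      have h8 : Nat.gcd (orderOf y) (r - 1) * c ≤ 1 * c := by
        rw [one_mul]
        calc Nat.gcd (orderOf y) (r - 1) * c = orderOf y := hc.symm
          _ ≤ c := hle
      have := Nat.le_of_mul_le_mul_right h8 hcpos
      omega
    rw [Nat.coprime_iff_gcd_eq_one, Nat.gcd_comm]
    exact hg1

end Cfsg.Agent.S3358L
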