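import Mathlib
import Cfsg.Agent.Lib.S3358.Defs

set_option autoImplicit false

namespace Cfsg.Agent.S3358L

universe u

/-- number theory: `s ≡ 1` modulo every prime divisor of `m`, `s^p ≡ 1 (mod m)`, `p ∤ m` ⇒ `s ≡ 1 (mod m)` -/
theorem Z1c_nt (m p s : ℕ) (hpm : Nat.Coprime p m)
    (h1 : ∀ q : ℕ, q.Prime → q ∣ m → s ≡ 1 [MOD q]) (h2 : s ^ p ≡ 1 [MOD m]) :
    s ≡ 1 [MOD m] := by
  have key : (m : ℤ) ∣ (s : ℤ) ^ m - 1 := by
    rw [Int.natCast_dvd]
    rw [Nat.dvd_iff_prime_pow_dvd_dvd]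
    intro q k hq hqk
    rw [← Int.natCast_dvd]
    rcases k with _ | j
    · simp
    · have hqm : q ∣ m := dvd_trans (dvd_pow_self q (Nat.succ_ne_zero j)) hqk
      have hs1 : (q : ℤ) ∣ (s : ℤ) - 1 := by
        have := (Nat.modEq_iff_dvd.mp (h1 q hq hqm))
        have h' : (q : ℤ) ∣ ((1 : ℕ) : ℤ) - (s : ℤ) := this
        rw [dvd_sub_comm] at h'
        simpa using h'
      have h3 := dvd_sub_pow_of_dvd_sub (R := ℤ) (p := q) (a := (s : ℤ)) (b := 1) hs1 j
      rw [one_pow] at h3
      have hqj : q ^ j ∣ m := dvd_trans (pow_dvd_pow q (Nat.le_succ j)) hqk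
      obtain ⟨c, hc⟩ := hqj
      have h4 : (s : ℤ) ^ q ^ j - 1 ∣ (s : ℤ) ^ m - 1 := by
        have := sub_dvd_pow_sub_pow ((s : ℤ) ^ q ^ j) 1 c
        rw [one_pow, ← pow_mul, ← hc] at this
        exact this
      have h5 : ((q ^ (j + 1) : ℕ) : ℤ) ∣ (s : ℤ) ^ q ^ j - 1 := by
        push_cast
        exact h3
      exact dvd_trans h5 h4
  -- work in ZMod m
  have ht_m : ((s : ZMod m)) ^ m = 1 := by
    have := (ZMod.intCast_zmod_eq_zero_iff_dvd ((s : ℤ) ^ m - 1) m).mpr key
    push_cast at this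
    exact sub_eq_zero.mp this
  have ht_p : ((s : ZMod m)) ^ p = 1 := by
    have := (ZMod.natCast_eq_natCast_iff (s ^ p) 1 m).mpr h2
    push_cast at this
    exact this
  have hd1 : orderOf (s : ZMod m) ∣ m := orderOf_dvd_of_pow_eq_one ht_m
  have hd2 : orderOf (s : ZMod m) ∣ p := orderOf_dvd_of_pow_eq_one ht_p
  have hd : orderOf (s : ZMod m) ∣ 1 := by
    have := Nat.dvd_gcd hd2 hd1
    rwa [hpm] at this
  have ht : (s : ZMod m) = 1 := orderOf_eq_one_iff.mp (Nat.dvd_one.mp hd)
  have : ((s : ℕ) : ZMod m) = ((1 : ℕ) : ZMod m) := by simpa using ht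
  exact (ZMod.natCast_eq_natCast_iff s 1 m).mp this

/-- iterated conjugation -/
theorem Z1c_conj_pow {Z : Type u} [Group Z] (x y : Z) (r : ℕ) (hrel : x⁻¹ * y * x = y ^ r) (k : ℕ) :
    (x ^ k)⁻¹ * y * x ^ k = y ^ (r ^ k) := by
  induction k with
  | zero => simp
  | succ k ih =>
    have h1 : (x ^ (k + 1))⁻¹ * y * x ^ (k + 1) = x⁻¹ * ((x ^ k)⁻¹ * y * x ^ k) * x := by
      rw [pow_succ]; group
    rw [h1, ih]
    have h2 : x⁻¹ * y ^ (r ^ k) * x = (x⁻¹ * y * x) ^ (r ^ k) := by
      have := map_pow (MulAut.conj x⁻¹) y (r ^ k)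
      simpa [MulAut.conj_apply] using this
    rw [h2, hrel, ← pow_mul, pow_succ, mul_comm]

/-- conjugation of a power -/
theorem Z1c_conj_pow_right {Z : Type u} [Group Z] (u y : Z) (s j : ℕ) (h : u⁻¹ * y * u = y ^ s) :
    u⁻¹ * y ^ j * u = (y ^ j) ^ s := by
  have := map_pow (MulAut.conj u⁻¹) y j
  have h2 : u⁻¹ * y ^ j * u = (u⁻¹ * y * u) ^ j := by
    simpa [MulAut.conj_apply] using this
  rw [h2, h, ← pow_mul, ← pow_mul, mul_comm]

/-- Z1c: the congruence from `PB` -/
theorem Z1c_congr {Z : Type u} [Group Z] [Finite Z] (hB : PB Z) (x y : Z) (r : ℕ)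
    (hcop : (orderOf x).Coprime (orderOf y)) (hrel : x⁻¹ * y * x = y ^ r) :
    r ^ (orderOf x / ∏ p ∈ (orderOf x).primeFactors, p) % orderOf y = 1 % orderOf y := by
  set n := orderOf x with hn
  set m := orderOf y with hm
  have hnpos : 0 < n := orderOf_pos x
  have hmpos : 0 < m := orderOf_pos y
  -- commuting ↔ congruence
  have hcomm_iff : ∀ k : ℕ, ((r : ZMod m)) ^ k = 1 ↔ (x ^ k)⁻¹ * y * x ^ k = y := by
    intro k
    rw [Z1c_conj_pow x y r hrel k]
    constructor
    · intro h
      have h' : ((r ^ k : ℕ) : ZMod m) = ((1 : ℕ) : ZMod m) := by push_cast; exact h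
      have h'' := (ZMod.natCast_eq_natCast_iff (r ^ k) 1 m).mp h'
      have := (pow_eq_pow_iff_modEq (x := y) (n := r ^ k) (m := 1)).mpr (by rw [← hm]; exact h'')
      simpa using this
    · intro h
      have h' : y ^ (r ^ k) = y ^ 1 := by simpa using h
      have h'' := (pow_eq_pow_iff_modEq (x := y)).mp h'
      rw [← hm] at h''
      have := (ZMod.natCast_eq_natCast_iff (r ^ k) 1 m).mpr h''
      push_cast at this
      exact this
  set d := orderOf (r : ZMod m) with hd
  -- d ∣ n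
  have hdn : d ∣ n := by
    apply orderOf_dvd_of_pow_eq_one
    rw [hcomm_iff, hn, pow_orderOf_eq_one]
    simp
  -- every prime divisor p of n has d ∣ n / p
  have hprime : ∀ p : ℕ, p.Prime → p ∣ n → d ∣ n / p := by
    intro p hp hpn
    apply orderOf_dvd_of_pow_eq_one
    rw [hcomm_iff]
    set u := x ^ (n / p) with hu
    set s := r ^ (n / p) with hs
    have hus : u⁻¹ * y * u = y ^ s := Z1c_conj_pow x y r hrel (n / p)
    have hnp0 : n / p ≠ 0 := by
      have := Nat.div_pos (Nat.le_of_dvd hnpos hpn) hp.pos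
      omega
    have hordu : orderOf u = p := by
      rw [hu, orderOf_pow_of_dvd hnp0 (Nat.div_dvd_of_dvd hpn), ← hn, Nat.div_div_self hpn hnpos.ne']
    have horduinv : orderOf u⁻¹ = p := by rw [orderOf_inv, hordu]
    -- s ≡ 1 modulo every prime divisor of m
    have hs1 : ∀ q : ℕ, q.Prime → q ∣ m → s ≡ 1 [MOD q] := by
      intro q hq hqm
      set b := y ^ (m / q) with hb
      have hmq0 : m / q ≠ 0 := by
        have := Nat.div_pos (Nat.le_of_dvd hmpos hqm) hq.pos
        omega
      have hordb : orderOf b = q := by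
        rw [hb, orderOf_pow_of_dvd hmq0 (Nat.div_dvd_of_dvd hqm), ← hm, Nat.div_div_self hqm hmpos.ne']
      have hconj : u⁻¹ * b * u = b ^ s := Z1c_conj_pow_right u y s (m / q) hus
      have hmem : u⁻¹ * b * u⁻¹⁻¹ ∈ Subgroup.zpowers b := by
        rw [inv_inv, hconj]
        exact Subgroup.pow_mem _ (Subgroup.mem_zpowers b) s
      have hcommb := hB p q u⁻¹ b hp hq horduinv hordb hmem
      have hbs : b ^ s = b ^ 1 := by
        rw [← hconj, pow_one]
        calc u⁻¹ * b * u = b * u⁻¹ * u := by rw [hcommb]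
          _ = b := by group
      have := (pow_eq_pow_iff_modEq (x := b)).mp hbs
      rwa [hordb] at this
    -- s ^ p ≡ 1 mod m
    have hsp : s ^ p ≡ 1 [MOD m] := by
      have h1 := Z1c_conj_pow u y s hus p
      have hup : u ^ p = 1 := by rw [← hordu]; exact pow_orderOf_eq_one u
      rw [hup] at h1
      have h2 : y ^ (s ^ p) = y ^ 1 := by
        rw [← h1]; simp
      have := (pow_eq_pow_iff_modEq (x := y)).mp h2
      rwa [← hm] at this
    have hpm : Nat.Coprime p m := Nat.Coprime.coprime_dvd_left hpn hcop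
    have hfinal := Z1c_nt m p s hpm hs1 hsp
    -- conclude y ^ s = y
    rw [hus]
    have := (pow_eq_pow_iff_modEq (x := y) (n := s) (m := 1)).mpr (by rw [← hm]; exact hfinal)
    simpa using this
  -- the radical times d divides n
  set R := ∏ p ∈ n.primeFactors, p with hR
  have hRe : R ∣ n / d := by
    apply Finset.prod_primes_dvd
    · intro p hp
      exact (Nat.prime_of_mem_primeFactors hp).prime
    · intro p hp
      have hpp := Nat.prime_of_mem_primeFactors hp
      have hpn := Nat.dvd_of_mem_primeFactors hp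
      obtain ⟨c, hc⟩ := hprime p hpp hpn
      -- n = p * (n/p) = p * d * c
      have hn' : n = d * (p * c) := by
        have := Nat.div_mul_cancel hpn
        rw [hc] at this
        rw [← this]; ring
      have hdpos : 0 < d := Nat.pos_of_dvd_of_pos hdn hnpos
      have : n / d = p * c := by
        rw [hn', Nat.mul_div_cancel_left _ hdpos]
      rw [this]
      exact dvd_mul_right p c
  have hdR : d ∣ n / R := by
    obtain ⟨c, hc⟩ := hRe
    have hdpos : 0 < d := Nat.pos_of_dvd_of_pos hdn hnpos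
    have hn' : n = R * (d * c) := by
      have := Nat.div_mul_cancel hdn
      rw [hc] at this
      rw [← this]; ring
    have hRpos : 0 < R := by
      apply Nat.pos_of_ne_zero
      intro h0
      rw [h0, zero_mul] at hn'
      omega
    have : n / R = d * c := by
      rw [hn', Nat.mul_div_cancel_left _ hRpos]
    rw [this]
    exact dvd_mul_right d c
  have hpow : ((r : ZMod m)) ^ (n / R) = 1 := orderOf_dvd_iff_pow_eq_one.mp hdR
  have h' : ((r ^ (n / R) : ℕ) : ZMod m) = ((1 : ℕ) : ZMod m) := by push_cast; exact hpow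
  exact (ZMod.natCast_eq_natCast_iff (r ^ (n / R)) 1 m).mp h'

end Cfsg.Agent.S3358L
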