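import Mathlib
import Cfsg.Agent.Lib.S3358.Defs
import Cfsg.Agent.Lib.S3358.T0
import Cfsg.Agent.Lib.S3358.U3
import Cfsg.Agent.Lib.S3358.QL
import Cfsg.Agent.Lib.S3358.Z1a
import Cfsg.Agent.Lib.S3358.Z1b
import Cfsg.Agent.Lib.S3358.Z1c

set_option autoImplicit false

namespace Cfsg.Agent.S3358L

open Cfsg.Agent.S4292L

universe u

theorem Main_result {G : Type u} [Group G] [Finite G] (hsol : Group.IsSolvable G)
    (hFC : ∃ (L : Type) (_ : Group L) (_ : Finite L) (H : Subgroup L), Cfsg.IsFrobeniusComplement H ∧ Nonempty (G ≃* H)) :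
    ∃ G₀ : Subgroup G, G₀.Normal ∧
      (∃ f : G →* Equiv.Perm (Fin 4), f.ker = G₀) ∧
      (∀ (p : ℕ) [Fact p.Prime] (P : Sylow p G₀), IsCyclic P) ∧
      ∃ n m r : ℕ, 0 < n ∧ 0 < m ∧ Nat.Coprime (r - 1) m ∧ Nat.Coprime n m ∧ 1 ≤ r ∧
        r ^ (n / ∏ p ∈ n.primeFactors, p) % m = 1 % m ∧
        Nonempty (G₀ ≃* PresentedGroup
          ({FreeGroup.of (0 : Fin 2) ^ n, FreeGroup.of (1 : Fin 2) ^ m,
            (FreeGroup.of (0 : Fin 2))⁻¹ * FreeGroup.of 1 * FreeGroup.of 0 * (FreeGroup.of (1 : Fin 2) ^ r)⁻¹} :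
            Set (FreeGroup (Fin 2)))) := by
  have hfc : IsFC G := hFC
  obtain ⟨hU, hB⟩ := T0_props hfc
  obtain ⟨G₀, hn, hf, hsyl⟩ := QL_exists hsol hU
  refine ⟨G₀, hn, hf, hsyl, ?_⟩
  have hB0 : PB G₀ := (U3_subgroup G₀).2 hB
  obtain ⟨x, y, r, hr1, hcop, hcard, hrel, hcop2, hgen⟩ := Z1a_structure hsyl
  refine ⟨orderOf x, orderOf y, r, orderOf_pos x, orderOf_pos y, hcop2, hcop, hr1,
    Z1c_congr hB0 x y r hcop hrel, ?_⟩
  exact Z1b_presentation x y r hcard hrel hgen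

end Cfsg.Agent.S3358L
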